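import Cfsg.Agent.H745.TF.EssStmts3
import Cfsg.Agent.H752.TF.Inv

/-!
# S5262 (SQ), (EXC): involutions of `N3` and of mixed subgroups (helper491)
-/

set_option autoImplicit false
set_option linter.unusedVariables false
set_option linter.unusedSimpArgs false
set_option linter.dupNamespace false

namespace Cfsg.Agent.H491.TF.Exc

open Cfsg Cfsg.FusionSystem Cfsg.Agent.H745.TF Cfsg.Agent.H756.PU
open Cfsg.Agent.H752.TF

universe u v

section

variable {K : Type u} [Field K] {σ : K →+* K} {m : ℕ} (hK : HypK σ m)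
variable {U : Type v} [Group U] (T : TF σ U)

include hK

/-- the equations for the square of an element of `N3` -/
theorem sq_N3 {g : U} (hg : g ∈ T.N3) (h : g * g = 1) :
    (co T g).a6 * (co T g).a4 + (co T g).b8 * (co T g).b2 = 0 ∧
    (co T g).a4 * σ (co T g).a4 + (co T g).a6 * (co T g).a3 + (co T g).a7 * (co T g).b2 + (co T g).b8 * σ (co T g).b2 = 0 ∧
    (co T g).a6 * σ (co T g).a6 + (co T g).a7 * (co T g).a4 + σ (co T g).b8 * (co T g).b2 + (co T g).b8 * (co T g).a3 = 0 := by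
  have h2 := hK.two
  have e := congrArg (co T) h
  rw [co_mul hK, co_one] at e
  rw [mem_N3 hK] at hg
  generalize co T g = c at hg e ⊢
  obtain ⟨c1, c2, c8⟩ := hg
  have f5 := congrArg Cd.a5 e
  have f4 := congrArg Cd.b4 e
  have f6 := congrArg Cd.b6 e
  rw [mul_a5] at f5
  rw [mul_b4] at f4
  rw [mul_b6] at f6
  simp only [c1, c2, c8, zero_mul, mul_zero, add_zero, zero_add, map_zero, pow_zero, ne_eq,
    OfNat.ofNat_ne_zero, not_false_eq_true, zero_pow] at f5 f4 f6
  refine ⟨?_, ?_, ?_⟩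
  · linear_combination f5 - c.a5 * h2
  · linear_combination f4 - c.b4 * h2
  · linear_combination f6 - c.b6 * h2

omit hK in
theorem sel {x : K} (h : x * σ x = 0) : x = 0 := by
  rcases mul_eq_zero.1 h with h | h
  · exact h
  · exact (map_eq_zero σ).1 h

/-- an involution of `N3` with `b8 = 0` has `a4 = a6 = 0` -/
theorem of_b8 {g : U} (hg : g ∈ T.N3) (h : g * g = 1) (h8 : (co T g).b8 = 0) : (co T g).a4 = 0 ∧ (co T g).a6 = 0 := by
  obtain ⟨e1, e2, e3⟩ := sq_N3 hK T hg h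
  generalize co T g = c at e1 e2 e3 h8 ⊢
  rw [h8] at e1 e2 e3
  simp only [zero_mul, map_zero, add_zero] at e1 e2 e3
  have h6 : c.a6 = 0 := by
    by_contra h6
    have h4 := (mul_eq_zero.1 e1).resolve_left h6
    rw [h4, mul_zero, add_zero] at e3
    exact h6 (sel e3)
  refine ⟨?_, h6⟩
  by_contra h4
  rw [h6] at e2 e3
  simp only [zero_mul, zero_add, add_zero] at e2 e3
  have h7 := (mul_eq_zero.1 e3).resolve_right h4
  rw [h7, zero_mul, add_zero] at e2
  exact h4 (sel e2)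

/-- coordinates of a commutator `z = [r, y]`, the first ones -/
theorem comm_first {r y : U} (hy8 : (co T y).a8 = 0) :
    (co T (r * y * r⁻¹ * y⁻¹)).a1 = 0 ∧ (co T (r * y * r⁻¹ * y⁻¹)).a8 = 0 ∧ (co T (r * y * r⁻¹ * y⁻¹)).b8 = 0 ∧
    (co T (r * y * r⁻¹ * y⁻¹)).a2 = (co T r).a8 * (co T y).a1 ∧
    ((co T r).a8 * (co T y).a1 = 0 → (co T (r * y * r⁻¹ * y⁻¹)).a4 = (co T r).a8 * σ (co T y).a2 + (co T r).b8 * σ (co T y).a1 +
      (co T y).b8 * σ (co T r).a1) := by
  have h2 := hK.two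
  have e : co T (r * y * r⁻¹ * y⁻¹ * (y * r)) = co T (r * y) := by
    congr 1
    group
  rw [co_mul hK T _ (y * r), co_mul hK T y r, co_mul hK T r y] at e
  generalize co T (r * y * r⁻¹ * y⁻¹) = z at e ⊢
  generalize co T r = c at e ⊢
  generalize co T y = d at e hy8 ⊢
  have f1 := congrArg Cd.a1 e
  simp only [mul_a1] at f1
  have g1 : z.a1 = 0 := by linear_combination f1
  have f8 := congrArg Cd.a8 e
  simp only [mul_a8] at f8
  have g8 : z.a8 = 0 := by linear_combination f8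
  have k8 := congrArg Cd.b8 e
  simp only [mul_b8, mul_a8, hy8, g8, zero_mul, mul_zero, map_zero, add_zero, zero_add] at k8
  have l8 : z.b8 = 0 := by linear_combination k8
  have f2 := congrArg Cd.a2 e
  simp only [mul_a2, mul_a1, hy8, g1, g8, zero_mul, mul_zero, map_zero, add_zero, zero_add] at f2
  have g2 : z.a2 = c.a8 * d.a1 := by linear_combination f2
  refine ⟨g1, g8, l8, g2, fun h0 => ?_⟩
  have f4 := congrArg Cd.a4 e
  simp only [mul_a4, mul_a2, mul_a1, hy8, g1, g8, l8, zero_mul, mul_zero, map_zero, add_zero, zero_add] at f4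
  linear_combination f4 - (d.b8 * σ c.a1) * h2

end

/-- (SQ) -/
theorem stSQ : StSQ.{u, v} := by
  intro K _ σ m hK U _ T c hc h hA
  have h2 := hK.two
  obtain ⟨e1, e2, e3⟩ := sq_N3 hK T hc h
  rw [co_el] at e1 e2 e3
  rw [el_mem_N3 hK] at hc
  by_cases h8 : c.b8 = 0
  · have h46 := of_b8 hK T ((el_mem_N3 hK T).2 hc) h (by rw [co_el]; exact h8)
    rw [co_el] at h46
    have hb : c.b2 ≠ 0 := by
      intro hb
      apply hA
      rw [el_mem_A37 hK]
      exact ⟨hc.1, hc.2.1, hb, h46.1, h46.2, hc.2.2, h8⟩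
    refine ⟨1, 0, c.b2, hb, Or.inl one_ne_zero, ?_, ?_, ?_, ?_⟩
    · rw [map_one, mul_one, mul_one]
    · rw [h46.1, mul_zero]
    · rw [h46.2, map_zero, mul_zero]
    · rw [h8, map_zero, mul_zero]
  · have hs8 : σ c.b8 ≠ 0 := fun h0 => h8 ((map_eq_zero σ).1 h0)
    have hX : (c.a4 * σ c.b8 + c.b8 * σ c.a6) * σ (c.a4 * σ c.b8 + c.b8 * σ c.a6) = 0 := by
      have hs : σ c.a6 * σ c.a4 + σ c.b8 * σ c.b2 = 0 := by
        rw [← map_mul, ← map_mul, ← map_add, e1, map_zero]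
      rw [map_add, map_mul, map_mul, hK.sq, hK.sq]
      grind
    have hX0 : c.a4 * σ c.b8 + c.b8 * σ c.a6 = 0 := sel hX
    have h4 : c.a4 = c.b8 * σ (c.a6 / c.b8) := by
      rw [map_div₀]
      field_simp
      linear_combination hX0 - c.b8 * σ c.a6 * h2
    refine ⟨c.a6 / c.b8, 1, c.b8, h8, Or.inr one_ne_zero, ?_, ?_, ?_, ?_⟩
    · have h5 : c.b8 * (c.a6 / c.b8) * σ (c.a6 / c.b8) = c.a6 * c.a4 / c.b8 := by
        rw [h4]
        field_simp
      rw [h5, eq_div_iff h8]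
      linear_combination e1 - c.a6 * c.a4 * h2
    · rw [mul_one]; exact h4
    · rw [map_one, mul_one]
      field_simp
    · rw [map_one, mul_one, mul_one]

/-- (EXC) -/
theorem stExc : StExc.{u, v} := by
  intro K _ σ m hK U _ T R hA hB y hy hR
  have h2 := hK.two
  obtain ⟨r1, hr1, hr1B⟩ := SetLike.not_le_iff_exists.1 hB
  obtain ⟨r', hr', hr'A⟩ := SetLike.not_le_iff_exists.1 hA
  rw [mem_QB hK] at hr1B
  rw [mem_QA hK] at hr'A
  -- `y²`
  have e := congrArg (co T) hy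
  rw [co_mul hK, co_one] at e
  have k8 := congrArg Cd.b8 e
  simp only [mul_b8] at k8
  have hy8 : (co T y).a8 = 0 := sel (σ := σ) (by linear_combination k8 - (co T y).b8 * h2)
  have hN3 : ∀ z : U, z * z = 1 → (co T z).a1 = 0 → z ∈ T.N3 := fun z hz h => stOrd hK T z hz ((mem_QB hK T).2 h)
  -- `y ∈ QB`
  have hy1 : (co T y).a1 = 0 := by
    by_contra hy1
    have k4 := congrArg Cd.a4 e
    simp only [mul_a4, hy8, zero_mul, add_zero] at k4
    have hyb8 : (co T y).b8 = 0 := by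
      have h3 : (co T y).b8 * σ (co T y).a1 = 0 := by linear_combination k4 - (co T y).a4 * h2
      exact (mul_eq_zero.1 h3).resolve_right fun h => hy1 ((map_eq_zero σ).1 h)
    obtain ⟨z1, z8, zb8, z2, z4⟩ := comm_first hK T (r := r') hy8
    have hz := hR r' hr'
    have hzN := hN3 _ hz z1
    have hk : (co T r').a8 = 0 := by
      have h3 := ((mem_N3 hK T).1 hzN).2.1
      rw [z2] at h3
      exact (mul_eq_zero.1 h3).resolve_right hy1
    have h4 := z4 (by rw [hk, zero_mul])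
    have h5 := (of_b8 hK T hzN hz zb8).1
    rw [h4, hk, hyb8, zero_mul, zero_mul, add_zero, zero_add] at h5
    apply hr'A
    exact ⟨hk, (mul_eq_zero.1 h5).resolve_right fun h => hy1 ((map_eq_zero σ).1 h)⟩
  have hyN := hN3 y hy hy1
  -- `b8 = 0`
  have hyb8 : (co T y).b8 = 0 := by
    obtain ⟨z1, z8, zb8, z2, z4⟩ := comm_first hK T (r := r1) hy8
    have hz := hR r1 hr1
    have h4 := z4 (by rw [hy1, mul_zero])
    have h5 := (of_b8 hK T (hN3 _ hz z1) hz zb8).1
    have hy2 := ((mem_N3 hK T).1 hyN).2.1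
    rw [h4, hy1, hy2, map_zero, mul_zero, mul_zero, zero_add, zero_add] at h5
    exact (mul_eq_zero.1 h5).resolve_right fun h => hr1B ((map_eq_zero σ).1 h)
  obtain ⟨hy4, hy6⟩ := of_b8 hK T hyN hy hyb8
  have hy2 := ((mem_N3 hK T).1 hyN).2.1
  have h5 : y = T.x2 0 (co T y).b2 * (T.x3 (co T y).a3 * T.x4 0 (co T y).b4 * T.x5 (co T y).a5 * T.x6 0 (co T y).b6 *
      T.x7 (co T y).a7) := by
    conv_lhs => rw [← el_co T y]
    simp only [TF.el, hy1, hy2, hy4, hy6, hy8, hyb8, H659.TF.x1_zero T.rel, H659.TF.x8_zero T.rel, one_mul, mul_one]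
    group
  rw [h5]
  exact Subgroup.mul_mem_sup (x2_mem_Z T _) ((A37_iff hK T).2 ⟨_, _, _, _, _, rfl⟩)

end Cfsg.Agent.H491.TF.Exc
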