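import Mathlib
import Cfsg.Agent.KFacts.TwF4.CentR
import Cfsg.Agent.KFacts.TwF4.TorFix
import Cfsg.Agent.KFacts.TwF4.SylU

/-!
# The normalisers of `U`, `⟨X_1, …, X_7⟩`, `⟨X_2, …, X_8⟩` in `²F₄(q)`, all `q` (S5262)
-/

set_option autoImplicit false
set_option linter.unusedSectionVars false

namespace Cfsg.Agent.H491.TF

open Cfsg.Agent.KFacts.TwF4 Cfsg.Agent.KFacts.TwF4.SylU Cfsg.Agent.KFacts.TwF4.Inv Cfsg.Agent.KFacts.TwF4.Arc
open Cfsg.Agent.SplitTwo Cfsg.Agent.SplitTwo.ZS Cfsg.Agent.TitsThree.RankTwoZ Cfsg.Agent.TitsThree.RankTwoRGD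
open scoped commutatorElement

universe u

variable {F : Type*} [Field F] {σ : F →+* F} {G : Type u} [Group G] (S : Full σ G)

theorem z_mem : S.e 2 0 1 ∈ S.Zc 2 := S.mem_Zc.2 ⟨1, rfl⟩

theorem z_ne : S.e 2 0 1 ≠ 1 := fun h => one_ne_zero (S.e_eq_one h).2

/-- a normalising element normalises the centraliser -/
theorem conj_centralizer {A : Subgroup G} {g z : G} (hg : ∀ x ∈ A, g⁻¹ * x * g ∈ A)
    (hz : z ∈ Subgroup.centralizer (A : Set G)) : g * z * g⁻¹ ∈ Subgroup.centralizer (A : Set G) := by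
  rw [Subgroup.mem_centralizer_iff] at hz ⊢
  intro x hx
  have h2 := hz _ (hg x hx)
  calc x * (g * z * g⁻¹) = g * ((g⁻¹ * x * g) * z) * g⁻¹ := by group
    _ = g * (z * (g⁻¹ * x * g)) * g⁻¹ := by rw [h2]
    _ = _ := by group

/-- the normaliser of `⟨X_1, …, X_7⟩` -/
theorem norm_Q {g : G} (hg : ∀ x ∈ J S.XZ 1 7, g⁻¹ * x * g ∈ J S.XZ 1 7) :
    ∃ b ∈ J S.XZ 1 8, ∃ t ∈ S.T, g = b * t ∨ ∃ b' ∈ J S.XZ 1 8, g = b * (t * S.n2) * b' := by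
  refine S.form_of_conj (z_mem S) (z_ne S) ?_
  have h1 : S.e 2 0 1 ∈ Subgroup.centralizer (S.Q : Set G) := by
    rw [S.centralizer_Q]
    exact z_mem S
  have h2 := conj_centralizer (A := S.Q) hg h1
  rwa [S.centralizer_Q] at h2

/-- `n2` does not normalise `U` -/
theorem n2_not (h : ∀ x ∈ S.XZ 8, S.n2 * x * S.n2⁻¹ ∈ J S.XZ 1 8) : False := by
  have h1 : S.e 4 0 1 ∈ S.XZ 8 := (S.mem_XZ_even 4 _).2 ⟨0, 1, rfl⟩
  have h2 := h _ h1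
  have h3 : S.n2 * S.e 4 0 1 * S.n2⁻¹ ∈ S.XZ 0 := S.n2_refl.mem' h1 (by norm_num)
  have h4 := (S.J07_inf_UT h3 h2 (one_mem S.T) (by rw [mul_one])).1
  have h5 : S.e 4 0 1 = 1 := by
    have : S.e 4 0 1 = S.n2⁻¹ * (S.n2 * S.e 4 0 1 * S.n2⁻¹) * S.n2 := by group
    rw [this, h4]; group
  exact one_ne_zero (S.e_eq_one h5).2

/-- an element `b t n2 b'` does not normalise a group between `X_8` and `U` -/
theorem not_norm {A : Subgroup G} (h8 : S.XZ 8 ≤ A) (hA : A ≤ J S.XZ 1 8)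
    (hAU : ∀ b ∈ J S.XZ 1 8, ∀ x ∈ A, b * x * b⁻¹ ∈ A) (hAT : ∀ t ∈ S.T, ∀ x ∈ A, t * x * t⁻¹ ∈ A)
    {b t b' : G} (hb : b ∈ J S.XZ 1 8) (ht : t ∈ S.T) (hb' : b' ∈ J S.XZ 1 8)
    (hg : ∀ x ∈ A, (b * (t * S.n2) * b') * x * (b * (t * S.n2) * b')⁻¹ ∈ A) : False := by
  refine n2_not S fun x hx => hA ?_
  have h1 : b'⁻¹ * x * b' ∈ A := by
    have := hAU b'⁻¹ (inv_mem hb') x (h8 hx)
    rwa [inv_inv] at this
  have h2 := hg _ h1
  have h3 := hAU b⁻¹ (inv_mem hb) _ h2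
  have h4 := hAT t⁻¹ (inv_mem ht) _ h3
  have e : S.n2 * x * S.n2⁻¹ = t⁻¹ * (b⁻¹ * ((b * (t * S.n2) * b') * (b'⁻¹ * x * b') * (b * (t * S.n2) * b')⁻¹) *
      b⁻¹⁻¹) * t⁻¹⁻¹ := by group
  rw [e]
  exact h4

/-- the normaliser of `U` -/
theorem norm_U {g : G} (hg : ∀ x ∈ J S.XZ 1 8, g * x * g⁻¹ ∈ J S.XZ 1 8)
    (hg' : ∀ x ∈ J S.XZ 1 8, g⁻¹ * x * g ∈ J S.XZ 1 8) :
    ∃ b ∈ J S.XZ 1 8, ∃ t ∈ S.T, g = b * t := by
  have hc : ∀ z ∈ S.Zc 2, z ∈ Subgroup.centralizer (J S.XZ 1 8 : Set G) := by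
    intro z hz
    rw [Subgroup.mem_centralizer_iff]
    intro x hx
    exact S.comm_PL (J_mono (by norm_num) le_rfl hx) hz
  have hzc : g * S.e 2 0 1 * g⁻¹ ∈ S.Zc 2 := by
    have h1 := conj_centralizer (A := J S.XZ 1 8) hg' (hc _ (z_mem S))
    rw [← S.centralizer_Q, Subgroup.mem_centralizer_iff]
    rw [Subgroup.mem_centralizer_iff] at h1
    intro x hx
    exact h1 x (J_mono le_rfl (by norm_num) hx)
  obtain ⟨b, hb, t, ht, h | ⟨b', hb', h⟩⟩ := S.form_of_conj (z_mem S) (z_ne S) hzc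
  · exact ⟨b, hb, t, ht, h⟩
  · exfalso
    refine not_norm S (A := J S.XZ 1 8) (X_le_J (by norm_num) le_rfl) le_rfl
      (fun b hb x hx => mul_mem (mul_mem hb hx) (inv_mem hb)) (fun t ht x hx => S.T_conj_J ht hx) hb ht hb' ?_
    rw [← h]
    exact hg

/-- `U` normalises `⟨X_2, …, X_8⟩` -/
theorem U_J28 : ∀ b ∈ J S.XZ 1 8, ∀ x ∈ J S.XZ 2 8, b * x * b⁻¹ ∈ J S.XZ 2 8 := by
  intro b hb x hx
  obtain ⟨y, hy, r, hr, rfl⟩ := S.zsys8.split_ll (a := 1) (b := 8) (by norm_num) (by norm_num) hb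
  have h1 : r * x * r⁻¹ ∈ J S.XZ 2 8 := mul_mem (mul_mem hr hx) (inv_mem hr)
  have h2 : y * (r * x * r⁻¹) * y⁻¹ ∈ J S.XZ 2 8 := by
    have h3 : J S.XZ 2 8 ≤ (J S.XZ 2 8).comap (MulAut.conj y).toMonoidHom := by
      refine J_le fun k h1 h2 z hz => ?_
      show y * z * y⁻¹ ∈ J S.XZ 2 8
      have h4 := S.zsys8.comm 1 k (by omega) (by omega) y hy z hz
      have e : y * z * y⁻¹ = ⁅y, z⁆ * z := by rw [commutatorElement_def]; group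
      rw [e]
      exact mul_mem (J_mono (by omega) (by omega) h4) (mem_J hz (by omega) (by omega))
    exact h3 h1
  have e : y * r * x * (y * r)⁻¹ = y * (r * x * r⁻¹) * y⁻¹ := by group
  rw [e]
  exact h2

/-- `U` normalises `⟨X_1, …, X_7⟩` -/
theorem U_J17 : ∀ b ∈ J S.XZ 1 8, ∀ x ∈ J S.XZ 1 7, b * x * b⁻¹ ∈ J S.XZ 1 7 := by
  intro b hb x hx
  obtain ⟨r, hr, y, hy, rfl⟩ := S.zsys8.split_rr (a := 1) (b := 8) (by norm_num) (by norm_num) hb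
  have h2 : y * x * y⁻¹ ∈ J S.XZ 1 7 := by
    have h3 : J S.XZ 1 7 ≤ (J S.XZ 1 7).comap (MulAut.conj y).toMonoidHom := by
      refine J_le fun k h1 h2 z hz => ?_
      show y * z * y⁻¹ ∈ J S.XZ 1 7
      have h4 := S.zsys8.comm k 8 (by omega) (by omega) z hz y hy
      have e : y * z * y⁻¹ = ⁅z, y⁆⁻¹ * z := by rw [commutatorElement_def]; group
      rw [e]
      exact mul_mem (inv_mem (J_mono (by omega) (by omega) h4)) (mem_J hz (by omega) (by omega))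
    exact h3 hx
  have e : r * y * x * (r * y)⁻¹ = r * (y * x * y⁻¹) * r⁻¹ := by group
  rw [e]
  exact mul_mem (mul_mem (by exact hr) h2) (inv_mem (by exact hr))

theorem n1_J28 : ∀ x ∈ J S.XZ 2 8, S.n1 * x * S.n1⁻¹ ∈ J S.XZ 2 8 :=
  fun _ hx => S.n1_refl.mem_J hx (by norm_num) (by norm_num)

theorem n1_inv : S.n1⁻¹ = S.n1 := inv_eq_of_mul_eq_one_right S.n1_sq

theorem n2_inv : S.n2⁻¹ = S.n2 := inv_eq_of_mul_eq_one_right S.n2_sq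

/-- the normaliser of `⟨X_2, …, X_8⟩` -/
theorem norm_J28 {g : G} (hg : ∀ x ∈ J S.XZ 2 8, g * x * g⁻¹ ∈ J S.XZ 2 8)
    (hg' : ∀ x ∈ J S.XZ 2 8, g⁻¹ * x * g ∈ J S.XZ 2 8) :
    ∃ b ∈ J S.XZ 1 8, ∃ t ∈ S.T, g = b * t ∨ ∃ b' ∈ J S.XZ 1 8, g = b' * S.n1 * (b * t) := by
  have key : ∀ g : G, (∀ x ∈ J S.XZ 2 8, g * x * g⁻¹ ∈ J S.XZ 2 8) → g * S.e 2 0 1 * g⁻¹ ∈ S.Zc 2 →
      ∃ b ∈ J S.XZ 1 8, ∃ t ∈ S.T, g = b * t := by
    intro g hg h1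
    obtain ⟨b, hb, t, ht, h | ⟨b', hb', h⟩⟩ := S.form_of_conj (z_mem S) (z_ne S) h1
    · exact ⟨b, hb, t, ht, h⟩
    · exfalso
      refine not_norm S (A := J S.XZ 2 8) (X_le_J (by norm_num) le_rfl) (J_mono (by norm_num) le_rfl)
        (U_J28 S) (fun t ht x hx => S.T_conj_J ht hx) hb ht hb' ?_
      rw [← h]
      exact hg
  have hzW : g * S.e 2 0 1 * g⁻¹ ∈ S.W46 := by
    rw [← S.centralizer_J28]
    refine conj_centralizer hg' ?_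
    rw [S.centralizer_J28]
    exact S.Z4_W46 1
  obtain ⟨u, v, huv⟩ := S.mem_W46.1 hzW
  by_cases hv : v = 0
  · subst hv
    rw [S.e_zero, mul_one] at huv
    obtain ⟨b, hb, t, ht, h⟩ := key g hg (by rw [← huv]; exact ⟨u, rfl⟩)
    exact ⟨b, hb, t, ht, Or.inl h⟩
  · -- `z4(u) z6(v) = (x1(t) n1) z4(v) (x1(t) n1)⁻¹`
    set s : F := u / v with hs
    have hsv : s * v = u := by rw [hs]; field_simp
    have hx1 : S.o 0 s ∈ J S.XZ 1 8 := mem_J (S.mX1 s) (by norm_num) (by norm_num)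
    have h1 : S.o 0 s * S.e 3 0 v = S.e 3 0 v * S.o 0 s * S.e 2 0 u := by
      have h := S.o_e3 0 s 0 v
      simp only [mul_zero, map_zero, zero_add] at h
      rw [S.e_zero, S.o_zero, mul_one, mul_one, hsv] at h
      exact h
    have h2 : S.n1 * S.e 2 0 v * S.n1⁻¹ = S.e 3 0 v := by
      rw [S.n1_e]
      rfl
    have hcomm : S.e 2 0 u * S.e 3 0 v = S.e 3 0 v * S.e 2 0 u := by
      have h := S.e_e1 2 0 u 0 v
      rw [mul_zero, S.o_zero, mul_one] at h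
      exact h
    have hcomm2 : S.o 0 s * S.e 2 0 u = S.e 2 0 u * S.o 0 s := by
      have h := S.o_e2 0 s 0 u
      rw [mul_zero, S.e_zero, mul_one] at h
      exact h
    have h3 : (S.o 0 s * S.n1)⁻¹ * (g * S.e 2 0 1 * g⁻¹) * (S.o 0 s * S.n1) = S.e 2 0 v := by
      rw [← huv]
      have e1 : S.o 0 s * S.e 3 0 v * (S.o 0 s)⁻¹ = S.e 2 0 u * S.e 3 0 v := by
        rw [h1, hcomm, mul_assoc (S.e 3 0 v), hcomm2]
        group
      rw [← e1, ← h2]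
      group
    obtain ⟨b, hb, t, ht, h⟩ := key ((S.o 0 s * S.n1)⁻¹ * g) (by
      intro x hx
      have h4 := hg x hx
      have h5 := U_J28 S _ (inv_mem hx1) _ h4
      have h6 := n1_J28 S _ h5
      rw [n1_inv] at h6
      have e : (S.o 0 s * S.n1)⁻¹ * g * x * ((S.o 0 s * S.n1)⁻¹ * g)⁻¹ =
          S.n1⁻¹ * ((S.o 0 s)⁻¹ * (g * x * g⁻¹) * (S.o 0 s)⁻¹⁻¹) * S.n1⁻¹⁻¹ := by group
      rw [e, n1_inv, n1_inv]
      exact h6) (by
      have e : (S.o 0 s * S.n1)⁻¹ * g * S.e 2 0 1 * ((S.o 0 s * S.n1)⁻¹ * g)⁻¹ =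
          (S.o 0 s * S.n1)⁻¹ * (g * S.e 2 0 1 * g⁻¹) * (S.o 0 s * S.n1) := by group
      rw [e, h3]
      exact ⟨v, rfl⟩)
    refine ⟨b, hb, t, ht, Or.inr ⟨S.o 0 s, hx1, ?_⟩⟩
    rw [← h]
    group

/-- **`U` is a Sylow 2-subgroup** -/
theorem exists_sylow [Finite F] [Finite G] (hR : S.R.p = 2) : ∃ P : Sylow 2 G, (P : Subgroup G) = J S.XZ 1 8 := by
  have Z := S.zsys8
  have hU2 : IsPGroup 2 (J S.XZ 1 8) := isPGroup_J Z (two_X S hR) 8 1 8 (by norm_num) (by norm_num)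
  obtain ⟨P, hP⟩ := hU2.exists_le_sylow
  refine ⟨P, ?_⟩
  by_contra hne
  have hlt : J S.XZ 1 8 < (P : Subgroup G) := lt_of_le_of_ne hP (fun h => hne h.symm)
  have hfact : Fact (Nat.Prime 2) := ⟨Nat.prime_two⟩
  have hnil : Group.IsNilpotent (P : Subgroup G) := P.2.isNilpotent
  have hnc := (Group.normalizerCondition_of_isNilpotent (G := (P : Subgroup G))) ((J S.XZ 1 8).subgroupOf P)
    (lt_top_iff_ne_top.2 fun h => by
      rw [Subgroup.subgroupOf_eq_top] at h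
      exact absurd h (not_le_of_gt hlt))
  obtain ⟨g, hgN, hgU⟩ := SetLike.exists_of_lt hnc
  have hg : ∀ g : (P : Subgroup G), g ∈ Subgroup.normalizer ((J S.XZ 1 8).subgroupOf P : Set P) →
      ∀ x ∈ J S.XZ 1 8, (g : G) * x * (g : G)⁻¹ ∈ J S.XZ 1 8 := by
    intro g hgN x hx
    exact (Subgroup.mem_normalizer_iff.1 hgN ⟨x, hP hx⟩).1 hx
  have hg' : ∀ x ∈ J S.XZ 1 8, (g : G)⁻¹ * x * (g : G) ∈ J S.XZ 1 8 := by
    intro x hx
    have h1 := hg g⁻¹ (inv_mem hgN) x hx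
    have e : ((g⁻¹ : (P : Subgroup G)) : G) * x * ((g⁻¹ : (P : Subgroup G)) : G)⁻¹ = (g : G)⁻¹ * x * g := by
      rw [Subgroup.coe_inv, inv_inv]
    rwa [e] at h1
  obtain ⟨b, hb, t, ht, e⟩ := norm_U S (hg g hgN) hg'
  obtain ⟨c, d, rfl⟩ := S.mem_T.1 ht
  have htP : S.h c d ∈ (P : Subgroup G) := by
    have e1 : S.h c d = b⁻¹ * g := by rw [e]; group
    rw [e1]; exact mul_mem (inv_mem (hP hb)) g.2
  obtain ⟨k, hk⟩ := P.2 ⟨_, htP⟩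
  have hk' : S.h c d ^ (2 ^ k) = 1 := by
    have := congrArg Subtype.val hk
    simpa using this
  obtain ⟨rfl, rfl⟩ := torus_two S hk'
  apply hgU
  show (g : G) ∈ J S.XZ 1 8
  rw [e, S.h_one, mul_one]; exact hb

end Cfsg.Agent.H491.TF
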