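import Mathlib
import Cfsg.Agent.H491.TF.Norm
import Cfsg.Agent.H491.FS.Real
import Cfsg.Agent.H745.TF.Stmts
import Cfsg.Agent.S2128

/-!
# The embedding of `U` into `²F₄(q)` (S5262, REAL)

* `Emb S T ι` : `ι : U → G` respects the root elements;
* `Fl S ψ` : `ψ τ` is the field automorphism `τ` of `G`;
* `rep` : every element of the torus, with a field automorphism, induces an automorphism `IsTor`, and conversely.
-/

set_option autoImplicit false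
set_option linter.unusedSectionVars false

namespace Cfsg.Agent.H491.TF

open Cfsg Cfsg.FusionSystem Cfsg.Agent.H745.TF
open Cfsg.Agent.KFacts.TwF4 Cfsg.Agent.KFacts.TwF4.SylU Cfsg.Agent.KFacts.TwF4.Inv Cfsg.Agent.KFacts.TwF4.Arc
open Cfsg.Agent.SplitTwo Cfsg.Agent.SplitTwo.ZS Cfsg.Agent.TitsThree.RankTwoZ

universe u v w

variable {K : Type u} [Field K] {σ : K →+* K} {G : Type w} [Group G] (S : Full σ G) {U : Type v} [Group U]
  (T : Cfsg.Agent.H745.TF.TF σ U)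

/-- `ι` respects the root elements -/
structure Emb (ι : U →* G) : Prop where
  inj : Function.Injective ι
  e1 : ∀ t, ι (T.x1 t) = S.o 0 t
  e2 : ∀ p u, ι (T.x2 p u) = S.e 1 p u
  e3 : ∀ t, ι (T.x3 t) = S.o 1 t
  e4 : ∀ p u, ι (T.x4 p u) = S.e 2 p u
  e5 : ∀ t, ι (T.x5 t) = S.o 2 t
  e6 : ∀ p u, ι (T.x6 p u) = S.e 3 p u
  e7 : ∀ t, ι (T.x7 t) = S.o 3 t
  e8 : ∀ p u, ι (T.x8 p u) = S.e 4 p u

/-- the field automorphisms of `G` -/
structure Fl (ψ : (K ≃+* K) → MulAut G) : Prop where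
  o : ∀ τ a t, ψ τ (S.o a t) = S.o a (τ t)
  e : ∀ τ a p u, ψ τ (S.e a p u) = S.e a (τ p) (τ u)

/-- homomorphisms which agree on the root elements are equal -/
theorem hom_ext {M : Type*} [Group M] {α β : U →* M} (h1 : ∀ t, α (T.x1 t) = β (T.x1 t))
    (h2 : ∀ p u, α (T.x2 p u) = β (T.x2 p u)) (h3 : ∀ t, α (T.x3 t) = β (T.x3 t))
    (h4 : ∀ p u, α (T.x4 p u) = β (T.x4 p u)) (h5 : ∀ t, α (T.x5 t) = β (T.x5 t))
    (h6 : ∀ p u, α (T.x6 p u) = β (T.x6 p u)) (h7 : ∀ t, α (T.x7 t) = β (T.x7 t))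
    (h8 : ∀ p u, α (T.x8 p u) = β (T.x8 p u)) : α = β := by
  ext x
  obtain ⟨c, rfl⟩ := T.bij.2 x
  simp only [map_mul, h1, h2, h3, h4, h5, h6, h7, h8]

/-- a subgroup containing the root elements is everything -/
theorem mem_of_roots {H : Subgroup U} (h1 : ∀ t, T.x1 t ∈ H) (h2 : ∀ p u, T.x2 p u ∈ H) (h3 : ∀ t, T.x3 t ∈ H)
    (h4 : ∀ p u, T.x4 p u ∈ H) (h5 : ∀ t, T.x5 t ∈ H) (h6 : ∀ p u, T.x6 p u ∈ H) (h7 : ∀ t, T.x7 t ∈ H)
    (h8 : ∀ p u, T.x8 p u ∈ H) (x : U) : x ∈ H := by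
  obtain ⟨c, rfl⟩ := T.bij.2 x
  exact mul_mem (mul_mem (mul_mem (mul_mem (mul_mem (mul_mem (mul_mem (h1 _) (h2 _ _)) (h3 _)) (h4 _ _)) (h5 _))
    (h6 _ _)) (h7 _)) (h8 _ _)

/-! ### elements of the root groups -/

theorem cX {k : ℤ} (h1 : 1 ≤ k) (h2 : k ≤ 8) {x : G} (hx : x ∈ S.XZ k) :
    (k = 1 ∧ ∃ t, S.o 0 t = x) ∨ (k = 2 ∧ ∃ p u, S.e 1 p u = x) ∨ (k = 3 ∧ ∃ t, S.o 1 t = x) ∨
    (k = 4 ∧ ∃ p u, S.e 2 p u = x) ∨ (k = 5 ∧ ∃ t, S.o 2 t = x) ∨ (k = 6 ∧ ∃ p u, S.e 3 p u = x) ∨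
    (k = 7 ∧ ∃ t, S.o 3 t = x) ∨ (k = 8 ∧ ∃ p u, S.e 4 p u = x) := by
  have : k = 1 ∨ k = 2 ∨ k = 3 ∨ k = 4 ∨ k = 5 ∨ k = 6 ∨ k = 7 ∨ k = 8 := by omega
  rcases this with rfl | rfl | rfl | rfl | rfl | rfl | rfl | rfl
  · exact Or.inl ⟨rfl, S.X1 hx⟩
  · exact Or.inr (Or.inl ⟨rfl, S.X2 hx⟩)
  · exact Or.inr (Or.inr (Or.inl ⟨rfl, S.X3 hx⟩))
  · exact Or.inr (Or.inr (Or.inr (Or.inl ⟨rfl, S.X4 hx⟩)))
  · exact Or.inr (Or.inr (Or.inr (Or.inr (Or.inl ⟨rfl, S.X5 hx⟩))))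
  · exact Or.inr (Or.inr (Or.inr (Or.inr (Or.inr (Or.inl ⟨rfl, S.X6 hx⟩)))))
  · exact Or.inr (Or.inr (Or.inr (Or.inr (Or.inr (Or.inr (Or.inl ⟨rfl, S.X7 hx⟩))))))
  · exact Or.inr (Or.inr (Or.inr (Or.inr (Or.inr (Or.inr (Or.inr ⟨rfl, S.X8 hx⟩))))))

variable {S T} {ι : U →* G} (E : Emb S T ι)

include E

theorem Emb.mem (x : U) : ι x ∈ J S.XZ 1 8 := by
  have h : ∀ x, x ∈ (J S.XZ 1 8).comap ι := by
    refine mem_of_roots T ?_ ?_ ?_ ?_ ?_ ?_ ?_ ?_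
    · intro t; show ι _ ∈ J S.XZ 1 8; rw [E.e1]; exact mem_J (S.mX1 t) (by norm_num) (by norm_num)
    · intro p u; show ι _ ∈ J S.XZ 1 8; rw [E.e2]; exact mem_J (S.mX2 p u) (by norm_num) (by norm_num)
    · intro t; show ι _ ∈ J S.XZ 1 8; rw [E.e3]; exact mem_J (S.mX3 t) (by norm_num) (by norm_num)
    · intro p u; show ι _ ∈ J S.XZ 1 8; rw [E.e4]; exact mem_J (S.mX4 p u) (by norm_num) (by norm_num)
    · intro t; show ι _ ∈ J S.XZ 1 8; rw [E.e5]; exact mem_J (S.mX5 t) (by norm_num) (by norm_num)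
    · intro p u; show ι _ ∈ J S.XZ 1 8; rw [E.e6]; exact mem_J (S.mX6 p u) (by norm_num) (by norm_num)
    · intro t; show ι _ ∈ J S.XZ 1 8; rw [E.e7]; exact mem_J (S.mX7 t) (by norm_num) (by norm_num)
    · intro p u; show ι _ ∈ J S.XZ 1 8; rw [E.e8]; exact mem_J (S.mX8 p u) (by norm_num) (by norm_num)
  exact h x

theorem Emb.X_le_map {k : ℤ} (h1 : 1 ≤ k) (h2 : k ≤ 8) {H : Subgroup U}
    (a1 : k = 1 → ∀ t, T.x1 t ∈ H) (a2 : k = 2 → ∀ p u, T.x2 p u ∈ H) (a3 : k = 3 → ∀ t, T.x3 t ∈ H)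
    (a4 : k = 4 → ∀ p u, T.x4 p u ∈ H) (a5 : k = 5 → ∀ t, T.x5 t ∈ H) (a6 : k = 6 → ∀ p u, T.x6 p u ∈ H)
    (a7 : k = 7 → ∀ t, T.x7 t ∈ H) (a8 : k = 8 → ∀ p u, T.x8 p u ∈ H) : S.XZ k ≤ H.map ι := by
  intro x hx
  rcases cX S h1 h2 hx with ⟨h, t, rfl⟩ | ⟨h, p, u, rfl⟩ | ⟨h, t, rfl⟩ | ⟨h, p, u, rfl⟩ | ⟨h, t, rfl⟩ | ⟨h, p, u, rfl⟩ |
    ⟨h, t, rfl⟩ | ⟨h, p, u, rfl⟩
  · exact ⟨_, a1 h t, E.e1 t⟩
  · exact ⟨_, a2 h p u, E.e2 p u⟩
  · exact ⟨_, a3 h t, E.e3 t⟩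
  · exact ⟨_, a4 h p u, E.e4 p u⟩
  · exact ⟨_, a5 h t, E.e5 t⟩
  · exact ⟨_, a6 h p u, E.e6 p u⟩
  · exact ⟨_, a7 h t, E.e7 t⟩
  · exact ⟨_, a8 h p u, E.e8 p u⟩

theorem Emb.range_eq : ι.range = J S.XZ 1 8 := by
  apply le_antisymm
  · rintro _ ⟨x, rfl⟩
    exact E.mem x
  · rw [MonoidHom.range_eq_map]
    exact J_le fun k h1 h2 => E.X_le_map h1 h2 (fun _ _ => Subgroup.mem_top _) (fun _ _ _ => Subgroup.mem_top _)
      (fun _ _ => Subgroup.mem_top _) (fun _ _ _ => Subgroup.mem_top _) (fun _ _ => Subgroup.mem_top _)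
      (fun _ _ _ => Subgroup.mem_top _) (fun _ _ => Subgroup.mem_top _) (fun _ _ _ => Subgroup.mem_top _)

theorem Emb.surj {y : G} (hy : y ∈ J S.XZ 1 8) : ∃ x, ι x = y := by
  rw [← E.range_eq] at hy
  exact hy

theorem Emb.mem_QA (x : U) : x ∈ T.QA ↔ ι x ∈ J S.XZ 1 7 := by
  constructor
  · have h : T.QA ≤ (J S.XZ 1 7).comap ι := by
      unfold TF.QA TF.X1 TF.X2 TF.X3 TF.X4 TF.X5 TF.X6 TF.X7
      simp only [sup_le_iff, Subgroup.closure_le]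
      refine ⟨⟨⟨⟨⟨⟨?_, ?_⟩, ?_⟩, ?_⟩, ?_⟩, ?_⟩, ?_⟩
      · rintro _ ⟨t, rfl⟩; show ι _ ∈ J S.XZ 1 7; rw [E.e1]; exact mem_J (S.mX1 t) (by norm_num) (by norm_num)
      · rintro _ ⟨p, u, rfl⟩; show ι _ ∈ J S.XZ 1 7; rw [E.e2]; exact mem_J (S.mX2 p u) (by norm_num) (by norm_num)
      · rintro _ ⟨t, rfl⟩; show ι _ ∈ J S.XZ 1 7; rw [E.e3]; exact mem_J (S.mX3 t) (by norm_num) (by norm_num)
      · rintro _ ⟨p, u, rfl⟩; show ι _ ∈ J S.XZ 1 7; rw [E.e4]; exact mem_J (S.mX4 p u) (by norm_num) (by norm_num)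
      · rintro _ ⟨t, rfl⟩; show ι _ ∈ J S.XZ 1 7; rw [E.e5]; exact mem_J (S.mX5 t) (by norm_num) (by norm_num)
      · rintro _ ⟨p, u, rfl⟩; show ι _ ∈ J S.XZ 1 7; rw [E.e6]; exact mem_J (S.mX6 p u) (by norm_num) (by norm_num)
      · rintro _ ⟨t, rfl⟩; show ι _ ∈ J S.XZ 1 7; rw [E.e7]; exact mem_J (S.mX7 t) (by norm_num) (by norm_num)
    exact fun hx => h hx
  · intro hx
    have h : J S.XZ 1 7 ≤ T.QA.map ι := by
      refine J_le fun k h1 h2 => E.X_le_map h1 (by omega) ?_ ?_ ?_ ?_ ?_ ?_ ?_ ?_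
      · intro _ t
        exact (le_sup_of_le_left (le_sup_of_le_left (le_sup_of_le_left (le_sup_of_le_left (le_sup_of_le_left
          (le_sup_of_le_left le_rfl))))) : T.X1 ≤ T.QA) (Subgroup.subset_closure ⟨t, rfl⟩)
      · intro _ p u
        exact (le_sup_of_le_left (le_sup_of_le_left (le_sup_of_le_left (le_sup_of_le_left (le_sup_of_le_left
          (le_sup_of_le_right le_rfl))))) : T.X2 ≤ T.QA) (Subgroup.subset_closure ⟨p, u, rfl⟩)
      · intro _ t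
        exact (le_sup_of_le_left (le_sup_of_le_left (le_sup_of_le_left (le_sup_of_le_left
          (le_sup_of_le_right le_rfl)))) : T.X3 ≤ T.QA) (Subgroup.subset_closure ⟨t, rfl⟩)
      · intro _ p u
        exact (le_sup_of_le_left (le_sup_of_le_left (le_sup_of_le_left
          (le_sup_of_le_right le_rfl))) : T.X4 ≤ T.QA) (Subgroup.subset_closure ⟨p, u, rfl⟩)
      · intro _ t
        exact (le_sup_of_le_left (le_sup_of_le_left
          (le_sup_of_le_right le_rfl)) : T.X5 ≤ T.QA) (Subgroup.subset_closure ⟨t, rfl⟩)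
      · intro _ p u
        exact (le_sup_of_le_left (le_sup_of_le_right le_rfl) : T.X6 ≤ T.QA) (Subgroup.subset_closure ⟨p, u, rfl⟩)
      · intro _ t
        exact (le_sup_of_le_right le_rfl : T.X7 ≤ T.QA) (Subgroup.subset_closure ⟨t, rfl⟩)
      · intro h
        omega
    obtain ⟨y, hy, hyx⟩ := h hx
    rwa [← E.inj hyx]

theorem Emb.mem_QB (x : U) : x ∈ T.QB ↔ ι x ∈ J S.XZ 2 8 := by
  constructor
  · have h : T.QB ≤ (J S.XZ 2 8).comap ι := by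
      unfold TF.QB TF.X8 TF.X2 TF.X3 TF.X4 TF.X5 TF.X6 TF.X7
      simp only [sup_le_iff, Subgroup.closure_le]
      refine ⟨⟨⟨⟨⟨⟨?_, ?_⟩, ?_⟩, ?_⟩, ?_⟩, ?_⟩, ?_⟩
      · rintro _ ⟨p, u, rfl⟩; show ι _ ∈ J S.XZ 2 8; rw [E.e2]; exact mem_J (S.mX2 p u) (by norm_num) (by norm_num)
      · rintro _ ⟨t, rfl⟩; show ι _ ∈ J S.XZ 2 8; rw [E.e3]; exact mem_J (S.mX3 t) (by norm_num) (by norm_num)
      · rintro _ ⟨p, u, rfl⟩; show ι _ ∈ J S.XZ 2 8; rw [E.e4]; exact mem_J (S.mX4 p u) (by norm_num) (by norm_num)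
      · rintro _ ⟨t, rfl⟩; show ι _ ∈ J S.XZ 2 8; rw [E.e5]; exact mem_J (S.mX5 t) (by norm_num) (by norm_num)
      · rintro _ ⟨p, u, rfl⟩; show ι _ ∈ J S.XZ 2 8; rw [E.e6]; exact mem_J (S.mX6 p u) (by norm_num) (by norm_num)
      · rintro _ ⟨t, rfl⟩; show ι _ ∈ J S.XZ 2 8; rw [E.e7]; exact mem_J (S.mX7 t) (by norm_num) (by norm_num)
      · rintro _ ⟨p, u, rfl⟩; show ι _ ∈ J S.XZ 2 8; rw [E.e8]; exact mem_J (S.mX8 p u) (by norm_num) (by norm_num)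
    exact fun hx => h hx
  · intro hx
    have h : J S.XZ 2 8 ≤ T.QB.map ι := by
      refine J_le fun k h1 h2 => E.X_le_map (by omega) h2 ?_ ?_ ?_ ?_ ?_ ?_ ?_ ?_
      · intro h
        omega
      · intro _ p u
        exact (le_sup_of_le_left (le_sup_of_le_left (le_sup_of_le_left (le_sup_of_le_left (le_sup_of_le_left
          (le_sup_of_le_left le_rfl))))) : T.X2 ≤ T.QB) (Subgroup.subset_closure ⟨p, u, rfl⟩)
      · intro _ t
        exact (le_sup_of_le_left (le_sup_of_le_left (le_sup_of_le_left (le_sup_of_le_left (le_sup_of_le_left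
          (le_sup_of_le_right le_rfl))))) : T.X3 ≤ T.QB) (Subgroup.subset_closure ⟨t, rfl⟩)
      · intro _ p u
        exact (le_sup_of_le_left (le_sup_of_le_left (le_sup_of_le_left (le_sup_of_le_left
          (le_sup_of_le_right le_rfl)))) : T.X4 ≤ T.QB) (Subgroup.subset_closure ⟨p, u, rfl⟩)
      · intro _ t
        exact (le_sup_of_le_left (le_sup_of_le_left (le_sup_of_le_left
          (le_sup_of_le_right le_rfl))) : T.X5 ≤ T.QB) (Subgroup.subset_closure ⟨t, rfl⟩)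
      · intro _ p u
        exact (le_sup_of_le_left (le_sup_of_le_left
          (le_sup_of_le_right le_rfl)) : T.X6 ≤ T.QB) (Subgroup.subset_closure ⟨p, u, rfl⟩)
      · intro _ t
        exact (le_sup_of_le_left (le_sup_of_le_right le_rfl) : T.X7 ≤ T.QB) (Subgroup.subset_closure ⟨t, rfl⟩)
      · intro _ p u
        exact (le_sup_of_le_right le_rfl : T.X8 ≤ T.QB) (Subgroup.subset_closure ⟨p, u, rfl⟩)
    obtain ⟨y, hy, hyx⟩ := h hx
    rwa [← E.inj hyx]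

omit E in
/-- lifting automorphisms along an injective homomorphism -/
theorem exists_lift {H : Type*} [Group H] (j : H →* G) (hj : Function.Injective j) (β : MulAut G)
    (h : ∀ x, ∃ y, j y = β (j x)) (h' : ∀ x, ∃ y, j y = β⁻¹ (j x)) : ∃ γ : MulAut H, ∀ x, j (γ x) = β (j x) := by
  choose f hf using h
  choose f' hf' using h'
  refine ⟨{ toFun := f
            invFun := f'
            left_inv := fun x => hj (by rw [hf', hf, MulAut.inv_apply_self])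
            right_inv := fun x => hj (by rw [hf, hf', MulAut.apply_inv_self])
            map_mul' := fun x y => hj (by rw [hf, map_mul, map_mul, map_mul, hf, hf]) }, fun x => hf x⟩

omit E

/-! ### field automorphisms -/

section fl

variable {ψ : (K ≃+* K) → MulAut G} (P : Fl S ψ)

include P

theorem Fl.X (τ : K ≃+* K) (k : ZMod (2 * 8)) (x : G) : ψ τ x ∈ S.R.X k ↔ x ∈ S.R.X k := by
  rcases od_or_ev k with ⟨a, rfl⟩ | ⟨a, rfl⟩
  · rw [S.mem_odd, S.mem_odd]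
    constructor
    · rintro ⟨t, ht⟩
      refine ⟨τ.symm t, (ψ τ).injective ?_⟩
      rw [P.o, RingEquiv.apply_symm_apply, ht]
    · rintro ⟨t, rfl⟩
      exact ⟨τ t, (P.o τ a t).symm⟩
  · rw [S.mem_even, S.mem_even]
    constructor
    · rintro ⟨t, u, ht⟩
      refine ⟨τ.symm t, τ.symm u, (ψ τ).injective ?_⟩
      rw [P.e, RingEquiv.apply_symm_apply, RingEquiv.apply_symm_apply, ht]
    · rintro ⟨t, u, rfl⟩
      exact ⟨τ t, τ u, (P.e τ a t u).symm⟩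

theorem Fl.mem_T (τ : K ≃+* K) {t : G} (ht : t ∈ S.T) : ψ τ t ∈ S.T := by
  intro k x
  have h1 : ψ τ t * x * (ψ τ t)⁻¹ = ψ τ (t * (ψ τ)⁻¹ x * t⁻¹) := by
    rw [map_mul, map_mul, map_inv, MulAut.apply_inv_self]
  have h2 : t * (ψ τ)⁻¹ x * t⁻¹ ∈ S.R.X k ↔ (ψ τ)⁻¹ x ∈ S.R.X k := ht k _
  show ψ τ t * x * (ψ τ t)⁻¹ ∈ S.R.X k ↔ _
  rw [h1, P.X, h2, ← P.X τ k ((ψ τ)⁻¹ x), MulAut.apply_inv_self]

theorem Fl.refl : ψ (RingEquiv.refl K) = 1 :=
  S2128.aut_ext S (fun a t => P.o _ a t) (fun a p u => P.e _ a p u)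

theorem Fl.trans (τ τ' : K ≃+* K) : ψ (τ'.trans τ) = ψ τ * ψ τ' := by
  refine S2128.aut_ext S (fun a t => ?_) (fun a p u => ?_)
  · rw [P.o, MulAut.mul_apply, P.o, P.o]; rfl
  · rw [P.e, MulAut.mul_apply, P.e, P.e]; rfl

theorem Fl.symm (τ : K ≃+* K) : ψ τ.symm = (ψ τ)⁻¹ := by
  have h := P.trans τ.symm τ
  rw [RingEquiv.self_trans_symm, P.refl] at h
  exact eq_inv_of_mul_eq_one_left h.symm

theorem Fl.J_le {a b : ℤ} (τ : K ≃+* K) {x : G} (hx : x ∈ J S.XZ a b) : ψ τ x ∈ J S.XZ a b := by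
  have h : J S.XZ a b ≤ (J S.XZ a b).comap (ψ τ).toMonoidHom := by
    refine ZS.J_le fun k h1 h2 y hy => ?_
    exact mem_J (k := k) ((P.X τ _ y).2 hy) h1 h2
  exact h hx

theorem Fl.J {a b : ℤ} (τ : K ≃+* K) (x : G) : ψ τ x ∈ J S.XZ a b ↔ x ∈ J S.XZ a b := by
  refine ⟨fun hx => ?_, P.J_le τ⟩
  have h := P.J_le τ.symm hx
  rwa [P.symm, MulAut.inv_apply_self] at h

end fl

/-! ### the automorphisms of the torus -/

section tor

variable {ψ : (K ≃+* K) → MulAut G} (P : Fl S ψ)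

include E P

theorem tor_iff {α : MulAut U} {f g : K} (hf : f ≠ 0) (hg : g ≠ 0) {τ : K ≃+* K} {c d : Kˣ} (hc : (c : K) = g⁻¹)
    (hd : (d : K) = f * g) :
    T.IsTor α f g τ ↔ ∀ x, ι (α x) = S.h c d * ψ τ (ι x) * (S.h c d)⁻¹ := by
  have hσg : σ g ≠ 0 := (map_ne_zero σ).2 hg
  have v0 : (chO σ 0 c d : K) = f := by
    have : chO σ 0 c d = chE σ 0 c d * chE σ 1 c d := rfl
    rw [this, chE_zero, chE_one, Units.val_mul, hc, hd]
    field_simp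
  have v1 : (chE σ 1 c d : K) = f * g := by rw [chE_one, hd]
  have v2 : (chE σ 2 c d : K) = σ (f * g) * g := by
    rw [chE_two, Units.val_div_eq_div_val, Units.coe_map, hc]
    show σ (d : K) / g⁻¹ = _
    rw [hd]
    field_simp
  have v3 : (chE σ 3 c d : K) = f * g * σ g := by
    rw [chE_three, Units.val_div_eq_div_val, Units.coe_map, hd]
    show f * g / σ (c : K) = _
    rw [hc, map_inv₀]
    field_simp
  have v4 : (chE σ 4 c d : K) = g := by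
    rw [chE_four, Units.val_inv_eq_inv_val, hc, inv_inv]
  have w1 : (chO σ 1 c d : K) = f * g * σ (f * g) * g := by
    have : chO σ 1 c d = chE σ 1 c d * chE σ 2 c d := rfl
    rw [this, Units.val_mul, v1, v2]
    ring
  have w2 : (chO σ 2 c d : K) = f * σ f * g ^ 2 * σ g ^ 2 := by
    have : chO σ 2 c d = chE σ 2 c d * chE σ 3 c d := rfl
    rw [this, Units.val_mul, v2, v3, map_mul]
    ring
  have w3 : (chO σ 3 c d : K) = f * g ^ 2 * σ g := by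
    have : chO σ 3 c d = chE σ 3 c d * chE σ 4 c d := rfl
    rw [this, Units.val_mul, v3, v4]
    ring
  constructor
  · intro h x
    have key : ι.comp α.toMonoidHom = (MulAut.conj (S.h c d)).toMonoidHom.comp ((ψ τ).toMonoidHom.comp ι) := by
      refine hom_ext T ?_ ?_ ?_ ?_ ?_ ?_ ?_ ?_
      · intro t
        show ι (α (T.x1 t)) = S.h c d * ψ τ (ι (T.x1 t)) * (S.h c d)⁻¹
        rw [h.e1, E.e1, E.e1, P.o, S.h_o, v0]
      · intro p u
        show ι (α (T.x2 p u)) = S.h c d * ψ τ (ι (T.x2 p u)) * (S.h c d)⁻¹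
        rw [h.e2, E.e2, E.e2, P.e, S.h_e, v1]
      · intro t
        show ι (α (T.x3 t)) = S.h c d * ψ τ (ι (T.x3 t)) * (S.h c d)⁻¹
        rw [h.e3, E.e3, E.e3, P.o, S.h_o, w1]
      · intro p u
        show ι (α (T.x4 p u)) = S.h c d * ψ τ (ι (T.x4 p u)) * (S.h c d)⁻¹
        rw [h.e4, E.e4, E.e4, P.e, S.h_e, v2]
      · intro t
        show ι (α (T.x5 t)) = S.h c d * ψ τ (ι (T.x5 t)) * (S.h c d)⁻¹
        rw [h.e5, E.e5, E.e5, P.o, S.h_o, w2]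
      · intro p u
        show ι (α (T.x6 p u)) = S.h c d * ψ τ (ι (T.x6 p u)) * (S.h c d)⁻¹
        rw [h.e6, E.e6, E.e6, P.e, S.h_e, v3]
      · intro t
        show ι (α (T.x7 t)) = S.h c d * ψ τ (ι (T.x7 t)) * (S.h c d)⁻¹
        rw [h.e7, E.e7, E.e7, P.o, S.h_o, w3]
      · intro p u
        show ι (α (T.x8 p u)) = S.h c d * ψ τ (ι (T.x8 p u)) * (S.h c d)⁻¹
        rw [h.e8, E.e8, E.e8, P.e, S.h_e, v4]
    exact DFunLike.congr_fun key x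
  · intro h
    refine ⟨hf, hg, ?_, ?_, ?_, ?_, ?_, ?_, ?_, ?_⟩
    · intro t
      apply E.inj
      rw [h, E.e1, E.e1, P.o, S.h_o, v0]
    · intro p u
      apply E.inj
      rw [h, E.e2, E.e2, P.e, S.h_e, v1]
    · intro t
      apply E.inj
      rw [h, E.e3, E.e3, P.o, S.h_o, w1]
    · intro p u
      apply E.inj
      rw [h, E.e4, E.e4, P.e, S.h_e, v2]
    · intro t
      apply E.inj
      rw [h, E.e5, E.e5, P.o, S.h_o, w2]
    · intro p u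
      apply E.inj
      rw [h, E.e6, E.e6, P.e, S.h_e, v3]
    · intro t
      apply E.inj
      rw [h, E.e7, E.e7, P.o, S.h_o, w3]
    · intro p u
      apply E.inj
      rw [h, E.e8, E.e8, P.e, S.h_e, v4]

theorem rep_tor {α : MulAut U} {f g : K} {τ : K ≃+* K} (h : T.IsTor α f g τ) :
    ∃ t ∈ S.T, ∀ x, ι (α x) = t * ψ τ (ι x) * t⁻¹ :=
  ⟨S.h (Units.mk0 g h.ng)⁻¹ (Units.mk0 (f * g) (mul_ne_zero h.nf h.ng)), S.mem_T.2 ⟨_, _, rfl⟩,
    (tor_iff E P h.nf h.ng (by rw [Units.val_inv_eq_inv_val]; rfl) rfl).1 h⟩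

theorem tor_rep {α : MulAut U} {c d : Kˣ} {τ : K ≃+* K}
    (h : ∀ x, ι (α x) = S.h c d * ψ τ (ι x) * (S.h c d)⁻¹) : T.IsTor α (c * d) (c : K)⁻¹ τ := by
  refine (tor_iff E P (mul_ne_zero c.ne_zero d.ne_zero) (inv_ne_zero c.ne_zero) (inv_inv _).symm ?_).2 h
  have := c.ne_zero
  field_simp

theorem exists_rep {t : G} (ht : t ∈ S.T) (τ : K ≃+* K) : ∃ α : MulAut U, ∀ x, ι (α x) = t * ψ τ (ι x) * t⁻¹ := by
  refine exists_lift ι E.inj (MulAut.conj t * ψ τ) (fun x => ?_) fun x => ?_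
  · refine E.surj ?_
    show t * ψ τ (ι x) * t⁻¹ ∈ _
    exact S.T_conj_J ht ((P.J τ _).2 (E.mem x))
  · refine E.surj ?_
    rw [mul_inv_rev, ← map_inv, MulAut.mul_apply, MulAut.conj_apply, ← P.symm]
    exact (P.J _ _).2 (S.T_conj_J (inv_mem ht) (E.mem x))

theorem mem_TT {α : MulAut U} (hα : α ∈ T.TT) :
    ∃ t ∈ S.T, ∃ τ : K ≃+* K, ∀ x, ι (α x) = t * ψ τ (ι x) * t⁻¹ := by
  unfold TF.TT at hα
  induction hα using Subgroup.closure_induction with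
  | mem α h =>
    obtain ⟨f, g, τ, h⟩ := h
    obtain ⟨t, ht, h1⟩ := rep_tor E P h
    exact ⟨t, ht, τ, h1⟩
  | one => exact ⟨1, one_mem _, RingEquiv.refl K, fun x => by rw [P.refl]; simp⟩
  | mul α β _ _ hα hβ =>
    obtain ⟨t, ht, τ, h1⟩ := hα
    obtain ⟨t', ht', τ', h2⟩ := hβ
    refine ⟨t * ψ τ t', mul_mem ht (P.mem_T τ ht'), τ'.trans τ, fun x => ?_⟩
    rw [MulAut.mul_apply, h1, h2, P.trans, MulAut.mul_apply, map_mul, map_mul, map_inv]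
    group
  | inv α _ hα =>
    obtain ⟨t, ht, τ, h1⟩ := hα
    refine ⟨ψ τ.symm t⁻¹, P.mem_T _ (inv_mem ht), τ.symm, fun x => ?_⟩
    have h2 := h1 (α⁻¹ x)
    rw [MulAut.apply_inv_self] at h2
    have h3 : ψ τ (ι (α⁻¹ x)) = t⁻¹ * ι x * t := by rw [h2]; group
    apply (ψ τ).injective
    rw [h3]
    simp only [P.symm, map_mul, map_inv, MulAut.apply_inv_self, inv_inv]

/-- the field automorphism is determined -/
theorem rep_unique {α : MulAut U} {t t' : G} (ht : t ∈ S.T) (ht' : t' ∈ S.T) {τ τ' : K ≃+* K}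
    (h : ∀ x, ι (α x) = t * ψ τ (ι x) * t⁻¹) (h' : ∀ x, ι (α x) = t' * ψ τ' (ι x) * t'⁻¹) : τ = τ' := by
  obtain ⟨c, d, rfl⟩ := S.mem_T.1 ht
  obtain ⟨c', d', rfl⟩ := S.mem_T.1 ht'
  have key : ∀ a, (chO σ 0 c d : K) * τ a = chO σ 0 c' d' * τ' a := by
    intro a
    have h1 := (h (T.x1 a)).symm.trans (h' (T.x1 a))
    rw [E.e1, P.o, P.o, S.h_o, S.h_o] at h1
    exact S.injO 0 h1
  have h1 := key 1
  rw [map_one, map_one, mul_one, mul_one] at h1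
  ext a
  have h2 := key a
  rw [← h1] at h2
  exact mul_left_cancel₀ (Units.ne_zero _) h2

/-- `D` contains the whole torus -/
theorem full_torus [Finite K] {D : Subgroup (MulAut U)} (hA : T.HasA D) (hB : T.HasB D) {t : G} (ht : t ∈ S.T) :
    ∃ d ∈ D, ∀ x, ι (d x) = t * ι x * t⁻¹ := by
  obtain ⟨c, d, rfl⟩ := S.mem_T.1 ht
  -- `σ y / y` is everything
  let q : Kˣ →* Kˣ := Units.map (σ : K →* K) / MonoidHom.id Kˣ
  have hq : ∀ y, q y = Units.map (σ : K →* K) y / y := fun y => rfl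
  have hinj : Function.Injective q := by
    rw [injective_iff_map_eq_one]
    intro y hy
    rw [hq, div_eq_one] at hy
    have h1 : σ (y : K) = y := congrArg Units.val hy
    have h2 := S.sq (y : K)
    rw [h1, h1, pow_two] at h2
    exact Units.ext (mul_left_cancel₀ y.ne_zero (h2.symm.trans (mul_one _).symm))
  obtain ⟨y, hy⟩ := Finite.surjective_of_injective hinj (c / d)
  rw [hq] at hy
  have hone : ∀ x : G, x = ψ (RingEquiv.refl K) x := fun x => by rw [P.refl]; rfl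
  obtain ⟨α, hα⟩ := exists_rep E P (S.mem_T.2 ⟨Units.map (σ : K →* K) y, y, rfl⟩) (RingEquiv.refl K)
  obtain ⟨β, hβ⟩ := exists_rep E P (S.mem_T.2 ⟨d / y, d / y, rfl⟩) (RingEquiv.refl K)
  have hαD : α ∈ D := by
    refine hA (y : K) y.ne_zero α ?_
    have h1 := tor_rep E P hα
    rw [Units.coe_map, mul_comm] at h1
    exact h1
  have hβD : β ∈ D := by
    refine hB ((d / y : Kˣ) : K)⁻¹ (inv_ne_zero (Units.ne_zero _)) β ?_
    have h1 := tor_rep E P hβ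
    have e : ((((d / y : Kˣ) : K)⁻¹) ^ 2)⁻¹ = ((d / y : Kˣ) : K) * ((d / y : Kˣ) : K) := by
      rw [inv_pow, inv_inv, pow_two]
    rw [e]
    exact h1
  refine ⟨α * β, mul_mem hαD hβD, fun x => ?_⟩
  have h1 : S.h c d = S.h (Units.map (σ : K →* K) y) y * S.h (d / y) (d / y) := by
    rw [S.h_mul]
    congr 1
    · rw [div_eq_div_iff_mul_eq_mul] at hy
      rw [mul_div_assoc', hy, mul_comm c, mul_div_assoc, mul_comm, div_mul_cancel]
    · rw [mul_div_cancel]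
  rw [MulAut.mul_apply, hα, hβ, ← hone, ← hone, h1]
  group

end tor

end Cfsg.Agent.H491.TF
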