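import Cfsg.Agent.H784.TF.Ess
import Cfsg.Agent.H752.TF.Ess3

/-!
# S5262 (ESS), step B2: `E4 ≤ R ≤ QA`, `R ≰ QB`, `Ω₁(Z(R)) ≤ E` imply `R = QA` (helper491)
-/

set_option autoImplicit false
set_option linter.unusedVariables false
set_option linter.unusedSimpArgs false
set_option linter.dupNamespace false

namespace Cfsg.Agent.H491.TF.B2

open Cfsg Cfsg.FusionSystem Cfsg.Agent.H745.TF Cfsg.Agent.H756.PU Cfsg.Agent.H802.TE Cfsg.Agent.H784.TF
open Cfsg.Agent.H752.TF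

universe u v

section

variable {K : Type u} [Field K] {σ : K →+* K} {m : ℕ} (hK : HypK σ m)
variable {U : Type v} [Group U] (T : TF σ U)

/-- the bilinear form -/
def bet (c d : Cd K) : K := c.a1 * d.b6 + c.a2 * d.a5 + c.a6 * d.a3 + c.a7 * d.b2

include hK

/-- the product in `QA` -/
theorem mul_QA {x y : U} (hx : x ∈ T.QA) (hy : y ∈ T.QA) : co T (x * y) =
    ⟨(co T x).a1 + (co T y).a1, (co T x).a2 + (co T y).a2,
      (co T x).b2 + (co T y).b2 + (co T x).a2 * σ (co T y).a2 + (co T x).a4 * (co T y).a1 + (co T x).a6 * σ (co T y).a1,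
      (co T x).a3 + (co T y).a3 + (co T x).a4 * (co T y).a2 + σ (co T x).a6 * (co T y).a1 + (co T x).a7 * σ (co T y).a1,
      (co T x).a4 + (co T y).a4,
      (co T x).b4 + (co T y).b4 + (co T x).a4 * σ (co T y).a4 + (co T x).a5 * (co T y).a2 + (co T x).a6 * (co T y).a3 +
        (co T x).a7 * (co T y).b2 + (co T x).b6 * (co T y).a1 + (co T x).a6 * (co T x).a7 * σ (co T y).a1 +
        σ (co T x).a7 * (co T y).a1 * (co T y).a2 + (co T x).a7 * (co T y).a2 * σ (co T y).a2,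
      (co T x).a5 + (co T y).a5 + (co T x).a6 * (co T y).a4 + σ (co T x).a7 * (co T y).a1 + (co T x).a7 * σ (co T y).a2,
      (co T x).a6 + (co T y).a6,
      (co T x).b6 + (co T y).b6 + (co T x).a6 * σ (co T y).a6 + σ (co T x).a7 * (co T y).a2 + (co T x).a7 * (co T y).a4,
      (co T x).a7 + (co T y).a7, 0, 0⟩ := by
  rw [co_mul hK]
  rw [mem_QA hK] at hx hy
  generalize co T x = c at hx ⊢
  generalize co T y = d at hy ⊢
  obtain ⟨c8, c9⟩ := hx
  obtain ⟨d8, d9⟩ := hy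
  ext <;> simp only [mul_a1, mul_a2, mul_b2, mul_a3, mul_a4, mul_b4, mul_a5, mul_a6, mul_b6, mul_a7, mul_a8, mul_b8,
    c8, c9, d8, d9, zero_mul, mul_zero, add_zero, zero_add, map_zero, pow_zero, ne_eq,
    OfNat.ofNat_ne_zero, not_false_eq_true, zero_pow]

/-- commutators in `QA` -/
theorem comm_QA {x y : U} (hx : x ∈ T.QA) (hy : y ∈ T.QA) : ∃ B : K, co T (x * y * x⁻¹ * y⁻¹) =
    ⟨0, 0, (co T x).a2 * σ (co T y).a2 + (co T x).a4 * (co T y).a1 + (co T x).a6 * σ (co T y).a1 +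
        ((co T y).a2 * σ (co T x).a2 + (co T y).a4 * (co T x).a1 + (co T y).a6 * σ (co T x).a1),
      (co T x).a4 * (co T y).a2 + σ (co T x).a6 * (co T y).a1 + (co T x).a7 * σ (co T y).a1 +
        ((co T y).a4 * (co T x).a2 + σ (co T y).a6 * (co T x).a1 + (co T y).a7 * σ (co T x).a1), 0, B,
      (co T x).a6 * (co T y).a4 + σ (co T x).a7 * (co T y).a1 + (co T x).a7 * σ (co T y).a2 +
        ((co T y).a6 * (co T x).a4 + σ (co T y).a7 * (co T x).a1 + (co T y).a7 * σ (co T x).a2), 0,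
      (co T x).a6 * σ (co T y).a6 + σ (co T x).a7 * (co T y).a2 + (co T x).a7 * (co T y).a4 +
        ((co T y).a6 * σ (co T x).a6 + σ (co T y).a7 * (co T x).a2 + (co T y).a7 * (co T x).a4), 0, 0, 0⟩ := by
  have h2 := hK.two
  have e1 := mul_QA hK T hx hy
  have e2 := mul_QA hK T hy hx
  set S := (co T x).a6 * (co T y).a4 + σ (co T x).a7 * (co T y).a1 + (co T x).a7 * σ (co T y).a2 +
        ((co T y).a6 * (co T x).a4 + σ (co T y).a7 * (co T x).a1 + (co T y).a7 * σ (co T x).a2) with hS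
  set G := (co T x).a6 * σ (co T y).a6 + σ (co T x).a7 * (co T y).a2 + (co T x).a7 * (co T y).a4 +
        ((co T y).a6 * σ (co T x).a6 + σ (co T y).a7 * (co T x).a2 + (co T y).a7 * (co T x).a4) with hG
  refine ⟨(co T (x * y)).b4 + (co T (y * x)).b4 + S * ((co T x).a2 + (co T y).a2) + G * ((co T x).a1 + (co T y).a1),
    co_comm hK T ?_⟩
  rw [← co_mul hK, ← co_mul hK]
  have hyx : y * x ∈ T.QA := T.QA.mul_mem hy hx
  generalize co T (y * x) = d at e2 ⊢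
  generalize co T (x * y) = e at e1 ⊢
  generalize co T x = c at *
  generalize co T y = f at *
  subst e2 e1
  ext <;> simp only [mul_a1, mul_a2, mul_b2, mul_a3, mul_a4, mul_b4, mul_a5, mul_a6, mul_b6, mul_a7, mul_a8, mul_b8,
    zero_mul, mul_zero, add_zero, zero_add, map_zero, pow_zero, ne_eq,
    OfNat.ofNat_ne_zero, not_false_eq_true, zero_pow]
  all_goals first | ring1 | grind

/-- `[QA, E] ≤ Z4` -/
theorem comm_QAE {x y : U} (hx : x ∈ T.QA) (hy : y ∈ T.E) :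
    x * y * x⁻¹ * y⁻¹ = T.x4 0 (bet (co T x) (co T y)) := by
  have h2 := hK.two
  apply co_injective T
  rw [co_x4]
  apply co_comm hK
  rw [mem_QA hK] at hx
  rw [mem_E hK] at hy
  generalize co T x = c at hx ⊢
  generalize co T y = d at hy ⊢
  obtain ⟨c8, c9⟩ := hx
  obtain ⟨d1, d2, d4, d6, d7, d8, d9⟩ := hy
  ext <;> simp only [bet, e4, mul_a1, mul_a2, mul_b2, mul_a3, mul_a4, mul_b4, mul_a5, mul_a6, mul_b6, mul_a7, mul_a8, mul_b8,
    c8, c9, d1, d2, d4, d6, d7, d8, d9, zero_mul, mul_zero, add_zero, zero_add, map_zero, pow_zero, ne_eq,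
    OfNat.ofNat_ne_zero, not_false_eq_true, zero_pow]
  all_goals first | ring1 | grind

/-- squares in `QA` -/
theorem sq_QA {x : U} (hx : x ∈ T.QA) : ∃ B : K, co T (x ^ 2) =
    ⟨0, 0, (co T x).a2 * σ (co T x).a2 + (co T x).a4 * (co T x).a1 + (co T x).a6 * σ (co T x).a1,
      (co T x).a4 * (co T x).a2 + σ (co T x).a6 * (co T x).a1 + (co T x).a7 * σ (co T x).a1, 0, B,
      (co T x).a6 * (co T x).a4 + σ (co T x).a7 * (co T x).a1 + (co T x).a7 * σ (co T x).a2, 0,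
      (co T x).a6 * σ (co T x).a6 + σ (co T x).a7 * (co T x).a2 + (co T x).a7 * (co T x).a4, 0, 0, 0⟩ := by
  have h2 := hK.two
  have e1 := mul_QA hK T hx hx
  refine ⟨(co T (x * x)).b4, ?_⟩
  rw [sq, e1]
  generalize co T x = c
  ext <;> simp only []
  all_goals first | rfl | grind

/-- membership in `Z4` -/
theorem co_Z4 {x : U} : x ∈ T.Z4 ↔ ∃ B, co T x = ⟨0, 0, 0, 0, 0, B, 0, 0, 0, 0, 0, 0⟩ := by
  rw [mem_Z4 hK]
  constructor
  · rintro ⟨u, rfl⟩
    exact ⟨u, co_x4 T 0 u⟩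
  · rintro ⟨B, h⟩
    refine ⟨B, ?_⟩
    rw [← el_co T x, h]
    exact el_e4 T 0 B

theorem comm_QA_mem {x y : U} (hx : x ∈ T.QA) (hy : y ∈ T.QA) : x * y * x⁻¹ * y⁻¹ ∈ T.E := by
  obtain ⟨B, h⟩ := comm_QA hK T hx hy
  rw [mem_E hK, h]
  exact ⟨rfl, rfl, rfl, rfl, rfl, rfl, rfl⟩

theorem sq_QA_mem {x : U} (hx : x ∈ T.QA) : x ^ 2 ∈ T.E := by
  obtain ⟨B, h⟩ := sq_QA hK T hx
  rw [mem_E hK, h]
  exact ⟨rfl, rfl, rfl, rfl, rfl, rfl, rfl⟩

theorem sq_E {x : U} (hx : x ∈ T.E) : x ^ 2 = 1 := by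
  have h2 := hK.two
  apply co_injective T
  rw [sq, mul_QA hK T (E_le_QA hK T hx) (E_le_QA hK T hx), co_one]
  rw [mem_E hK] at hx
  generalize co T x = d at hx ⊢
  obtain ⟨d1, d2, d4, d6, d7, d8, d9⟩ := hx
  ext <;> simp only [d1, d2, d4, d6, d7, d8, d9, zero_mul, mul_zero, add_zero, zero_add, map_zero, pow_zero, ne_eq,
    OfNat.ofNat_ne_zero, not_false_eq_true, zero_pow]
  all_goals grind

theorem bet_E {x y : U} (hx : x ∈ T.E) (hy : y ∈ T.E) : bet (co T x) (co T y) = 0 := by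
  rw [mem_E hK] at hx
  rw [bet, hx.1, hx.2.1, hx.2.2.2.1, hx.2.2.2.2.1]
  ring

theorem bet_mul {x x' y : U} (hx : x ∈ T.QA) (hx' : x' ∈ T.QA) :
    bet (co T (x * x')) (co T y) = bet (co T x) (co T y) + bet (co T x') (co T y) := by
  rw [mul_QA hK T hx hx']
  simp only [bet]
  ring

theorem bet_mul_right {x y y' : U} (hy : y ∈ T.E) (hy' : y' ∈ T.E) :
    bet (co T x) (co T (y * y')) = bet (co T x) (co T y) + bet (co T x) (co T y') := by
  rw [mul_QA hK T (E_le_QA hK T hy) (E_le_QA hK T hy')]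
  rw [mem_E hK] at hy hy'
  simp only [bet, hy.1, hy.2.1, hy.2.2.1, hy.2.2.2.1, hy.2.2.2.2.1, hy'.1, hy'.2.1, hy'.2.2.1, hy'.2.2.2.1, hy'.2.2.2.2.1,
    zero_mul, mul_zero, add_zero, map_zero]
  ring

theorem comm_eq_one {x y : U} (hx : x ∈ T.QA) (hy : y ∈ T.E) :
    x * y * x⁻¹ * y⁻¹ = 1 ↔ bet (co T x) (co T y) = 0 := by
  rw [comm_QAE hK T hx hy]
  constructor
  · intro h
    have h1 := congrArg (co T) h
    rw [co_x4, co_one] at h1
    exact congrArg Cd.b4 h1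
  · intro h
    rw [h]
    exact H659.TF.x4_zero T.rel

theorem comm_mem_Z4 {x y : U} (hx : x ∈ T.QA) (hy : y ∈ T.E) : x * y * x⁻¹ * y⁻¹ ∈ T.Z4 := by
  rw [comm_QAE hK T hx hy]
  exact x4_mem_Z T _

end

/-- the last step: `Z4` and `E` are invariant -/
theorem fin_step (hch : StCh.{v}) {K : Type u} [Field K] {σ : K →+* K} {m : ℕ} (hK : HypK σ m) {U : Type v} [Group U]
    (T : TF σ U) {R : Subgroup U} {Γ : Subgroup (MulAut R)} (hE : Ess (⊤ : Subgroup U) R 2 Γ) (hi0 : Inv Γ (⊥ : Subgroup U))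
    (hiR : Inv Γ R) (hiZ : Inv Γ T.Z4) (hiE : Inv Γ T.E) (hQA : R ≤ T.QA) : R = T.QA := by
  refine le_antisymm hQA ?_
  refine hch hE 3 (fun i => match i with | 0 => ⊥ | 1 => T.Z4 | 2 => T.E | _ => R) bot_le rfl ?_ ?_ T.QA le_top ?_
  · intro i hi
    interval_cases i
    · exact hi0
    · exact hiZ
    · exact hiE
    · exact hiR
  · intro i hi
    interval_cases i
    · exact bot_le
    · exact Z4_le_E T
    · exact hiE.1
  · intro i hi
    interval_cases i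
    · intro a ha x hx
      change x ∈ T.Z4 at hx
      obtain ⟨u, rfl⟩ := (mem_Z4 hK T).1 hx
      rw [comm_Z4 hK T a u, mul_inv_cancel_right, mul_inv_cancel]
      exact Subgroup.one_mem _
    · intro a ha x hx
      exact comm_mem_Z4 hK T ha hx
    · intro a ha x hx
      exact comm_QA_mem hK T ha (hQA hx)

/-- `x ∈ H ⊔ A` is a product -/
theorem mem_sup_of {G : Type*} [Group G] {H A : Subgroup G} (h : ∀ a ∈ A, ∀ x ∈ H, a * x * a⁻¹ ∈ H) {x : G}
    (hx : x ∈ H ⊔ A) : ∃ y ∈ H, ∃ a ∈ A, x = y * a := by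
  let S : Subgroup G :=
    { carrier := {x | ∃ y ∈ H, ∃ a ∈ A, x = y * a}
      one_mem' := ⟨1, H.one_mem, 1, A.one_mem, (mul_one 1).symm⟩
      mul_mem' := by
        rintro _ _ ⟨y, hy, a, ha, rfl⟩ ⟨z, hz, b, hb, rfl⟩
        exact ⟨y * (a * z * a⁻¹), H.mul_mem hy (h a ha z hz), a * b, A.mul_mem ha hb, by group⟩
      inv_mem' := by
        rintro _ ⟨y, hy, a, ha, rfl⟩
        refine ⟨a⁻¹ * y⁻¹ * a⁻¹⁻¹, h _ (A.inv_mem ha) _ (H.inv_mem hy), a⁻¹, A.inv_mem ha, by group⟩ }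
  have h1 : H ⊔ A ≤ S := sup_le (fun y hy => ⟨y, hy, 1, A.one_mem, (mul_one y).symm⟩)
    (fun a ha => ⟨1, H.one_mem, a, ha, (one_mul a).symm⟩)
  exact h1 hx

/-- (FF2) for `A = {x ∈ QA | x̄ ∈ K w}` -/
theorem ff_step (hff2 : StFF2.{v}) {K : Type u} [Field K] {σ : K →+* K} {m : ℕ} (hK : HypK σ m) {U : Type v} [Group U]
    (T : TF σ U) {R : Subgroup U} {Γ : Subgroup (MulAut R)} (hE : Ess (⊤ : Subgroup U) R 2 Γ) (hi0 : Inv Γ (⊥ : Subgroup U))
    (hER : T.E ≤ R) (hQA : R ≤ T.QA) (V1 : Subgroup U) (hiV : Inv Γ V1)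
    (hVm : ∀ z, z ∈ V1 ↔ z ∈ T.E ∧ ∀ r ∈ R, bet (co T r) (co T z) = 0) {z : U} (hz : z ∈ V1) (hz4 : z ∉ T.Z4) {y : U}
    (hy : y ∈ T.QA) (hyz : bet (co T y) (co T z) = 0) : y ∈ R := by
  classical
  have := finite_U hK T
  have := hK.fin
  obtain ⟨hzE, hzR⟩ := (hVm z).1 hz
  have hVE : V1 ≤ T.E := fun w hw => ((hVm w).1 hw).1
  -- the vector `w`
  obtain ⟨w1, w2, w6, w7, hw0, hw⟩ : ∃ w1 w2 w6 w7 : K, (w1 ≠ 0 ∨ w2 ≠ 0 ∨ w6 ≠ 0 ∨ w7 ≠ 0) ∧
      w1 * (co T z).b6 + w2 * (co T z).a5 + w6 * (co T z).a3 + w7 * (co T z).b2 ≠ 0 := by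
    by_contra hcon
    push Not at hcon
    apply hz4
    have k1 := hcon 1 0 0 0 (Or.inl one_ne_zero)
    have k2 := hcon 0 1 0 0 (Or.inr (Or.inl one_ne_zero))
    have k3 := hcon 0 0 1 0 (Or.inr (Or.inr (Or.inl one_ne_zero)))
    have k4 := hcon 0 0 0 1 (Or.inr (Or.inr (Or.inr one_ne_zero)))
    simp only [one_mul, zero_mul, add_zero, zero_add] at k1 k2 k3 k4
    rw [mem_E hK] at hzE
    rw [co_Z4 hK]
    refine ⟨(co T z).b4, ?_⟩
    ext
    · exact hzE.1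
    · exact hzE.2.1
    · exact k4
    · exact k3
    · exact hzE.2.2.1
    · rfl
    · exact k2
    · exact hzE.2.2.2.1
    · exact k1
    · exact hzE.2.2.2.2.1
    · exact hzE.2.2.2.2.2.1
    · exact hzE.2.2.2.2.2.2
  obtain ⟨A, hA⟩ := exists_sub hK T (fun c => c.a8 = 0 ∧ c.b8 = 0 ∧ ∃ l, c.a1 = l * w1 ∧ c.a2 = l * w2 ∧ c.a6 = l * w6 ∧
      c.a7 = l * w7) ⟨rfl, rfl, 0, by rw [zero_mul], by rw [zero_mul], by rw [zero_mul], by rw [zero_mul]⟩ (by
    rintro c d ⟨c8, c9, l, c1, c2, c6, c7⟩ ⟨d8, d9, l', d1, d2, d6, d7⟩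
    refine ⟨?_, ?_, l + l', ?_, ?_, ?_, ?_⟩
    · rw [mul_a8, c8, d8, add_zero]
    · rw [mul_b8, c8, c9, d9, zero_mul, add_zero, add_zero]
    · rw [mul_a1, c1, d1]; ring
    · rw [mul_a2, c8, c2, d2]; ring
    · rw [mul_a6, c8, c9, c6, d6, map_zero]; ring
    · rw [mul_a7, c8, c9, c7, d7, map_zero]; ring)
  have hAQ : A ≤ T.QA := fun x hx => (mem_QA hK T).2 ⟨((hA x).1 hx).1, ((hA x).1 hx).2.1⟩
  have hbetA : ∀ x ∈ A, ∃ l : K, (co T x).a1 = l * w1 ∧ (co T x).a2 = l * w2 ∧ (co T x).a6 = l * w6 ∧ (co T x).a7 = l * w7 ∧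
      bet (co T x) (co T z) = l * (w1 * (co T z).b6 + w2 * (co T z).a5 + w6 * (co T z).a3 + w7 * (co T z).b2) := by
    intro x hx
    obtain ⟨-, -, l, l1, l2, l6, l7⟩ := (hA x).1 hx
    refine ⟨l, l1, l2, l6, l7, ?_⟩
    rw [bet, l1, l2, l6, l7]
    ring
  have hAD : ∀ x ∈ A, bet (co T x) (co T z) = 0 → x ∈ T.D := by
    intro x hx h
    obtain ⟨l, l1, l2, l6, l7, hb⟩ := hbetA x hx
    rw [hb] at h
    have hl : l = 0 := (mul_eq_zero.1 h).resolve_right hw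
    rw [hl, zero_mul] at l1 l2 l6 l7
    have h8 := (mem_QA hK T).1 (hAQ hx)
    exact (mem_D hK T).2 ⟨l1, l2, l6, l7, h8.1, h8.2⟩
  -- normalization
  have hnormQ : ∀ x ∈ T.QA, ∀ e ∈ R, x * e * x⁻¹ ∈ R := by
    intro x hx e he
    have h1 : x * e * x⁻¹ = x * e * x⁻¹ * e⁻¹ * e := by group
    rw [h1]
    exact R.mul_mem (hER (comm_QA_mem hK T hx (hQA he))) he
  have hQN : T.QA ≤ normalizerIn ⊤ R := by
    intro x hx
    refine Subgroup.mem_inf.2 ⟨Subgroup.mem_top _, ?_⟩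
    rw [Subgroup.mem_normalizer_iff]
    intro e
    refine ⟨hnormQ x hx e, fun h => ?_⟩
    have h2 := hnormQ x⁻¹ (T.QA.inv_mem hx) _ h
    rwa [inv_inv, ← mul_assoc, ← mul_assoc, inv_mul_cancel, one_mul, inv_mul_cancel_right] at h2
  -- the element with `x̄ = w`
  have hex : ∀ l : K, T.el ⟨l * w1, l * w2, 0, 0, 0, 0, 0, l * w6, 0, l * w7, 0, 0⟩ ∈ A := by
    intro l
    rw [hA, co_el]
    exact ⟨rfl, rfl, l, rfl, rfl, rfl, rfl⟩
  have hcom : ¬ Com A V1 (⊥ : Subgroup U) := by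
    intro h
    have h1 := Subgroup.mem_bot.1 (h _ (hex 1) z hz)
    rw [comm_eq_one hK T (hAQ (hex 1)) hzE, co_el] at h1
    apply hw
    rw [← h1, bet]
    ring
  obtain ⟨hle, heq⟩ := hff2 hE ⊥ V1 A hi0 hiV bot_le
    (fun r hr v hv => Subgroup.mem_bot.2 ((comm_eq_one hK T (hQA hr) (hVE hv)).2 (((hVm v).1 hv).2 r hr)))
    (fun v hv => Subgroup.mem_bot.2 (sq_E hK T (hVE hv))) (hAQ.trans hQN)
    (fun a ha b hb => hER (comm_QA_mem hK T (hAQ ha) (hAQ hb))) (fun a ha => hER (sq_QA_mem hK T (hAQ ha))) hcom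
  -- `|V1 : C(A)| ≤ q`
  have hidx : (cmod A V1 (⊥ : Subgroup U)).relIndex V1 ≤ Nat.card K := by
    let φ : V1 →* Multiplicative K :=
      { toFun := fun v => Multiplicative.ofAdd (bet ⟨w1, w2, 0, 0, 0, 0, 0, w6, 0, w7, 0, 0⟩ (co T (v : U)))
        map_one' := by
          rw [OneMemClass.coe_one, co_one]
          simp [bet]
        map_mul' := fun v v' => by
          have h1 := bet_mul_right hK T (x := T.el ⟨w1, w2, 0, 0, 0, 0, 0, w6, 0, w7, 0, 0⟩) (hVE v.2) (hVE v'.2)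
          rw [co_el] at h1
          rw [Subgroup.coe_mul, h1, ofAdd_add] }
    have hker : φ.ker ≤ (cmod A V1 (⊥ : Subgroup U)).subgroupOf V1 := by
      intro v hv
      rw [Subgroup.mem_subgroupOf]
      refine Subgroup.subset_closure ⟨v.2, fun a ha => ?_⟩
      rw [Subgroup.mem_bot, comm_eq_one hK T (hAQ ha) (hVE v.2)]
      obtain ⟨-, -, l, l1, l2, l6, l7⟩ := (hA a).1 ha
      have h1 : bet ⟨w1, w2, 0, 0, 0, 0, 0, w6, 0, w7, 0, 0⟩ (co T (v : U)) = 0 := by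
        have h2 := MonoidHom.mem_ker.1 hv
        exact Multiplicative.ofAdd.injective h2
      simp only [bet] at h1
      rw [bet, l1, l2, l6, l7]
      linear_combination l * h1
    have h1 : φ.ker.index ≤ Nat.card K := by
      rw [Subgroup.index_ker]
      exact Nat.card_le_card_of_injective (fun x : φ.range => Multiplicative.toAdd (x : Multiplicative K))
        (fun x y h => Subtype.ext (Multiplicative.toAdd.injective h))
    refine le_trans ?_ h1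
    exact Nat.le_of_dvd (Nat.pos_of_ne_zero Subgroup.index_ne_zero_of_finite) (Subgroup.index_dvd_of_le hker)
  -- `|A| ≥ q |D|`
  have hDA : T.D ≤ A := by
    intro x hx
    rw [mem_D hK] at hx
    exact (hA x).2 ⟨hx.2.2.2.2.1, hx.2.2.2.2.2, 0, by rw [hx.1, zero_mul], by rw [hx.2.1, zero_mul],
      by rw [hx.2.2.1, zero_mul], by rw [hx.2.2.2.1, zero_mul]⟩
  have hcardA : Nat.card K * Nat.card T.D ≤ Nat.card A := by
    rw [← Nat.card_prod]
    refine Nat.card_le_card_of_injective (fun x : K × T.D => (⟨T.el ⟨x.1 * w1, x.1 * w2, 0, 0, 0, 0, 0, x.1 * w6, 0,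
      x.1 * w7, 0, 0⟩ * (x.2 : U), A.mul_mem (hex x.1) (hDA x.2.2)⟩ : A)) ?_
    rintro ⟨l, d⟩ ⟨l', d'⟩ h
    have h1 : T.el ⟨l * w1, l * w2, 0, 0, 0, 0, 0, l * w6, 0, l * w7, 0, 0⟩ * (d : U) =
        T.el ⟨l' * w1, l' * w2, 0, 0, 0, 0, 0, l' * w6, 0, l' * w7, 0, 0⟩ * (d' : U) := congrArg Subtype.val h
    have hl : l = l' := by
      have h2 := congrArg (co T) h1
      rw [mul_QA hK T (hAQ (hex l)) (D_le_QA hK T d.2), mul_QA hK T (hAQ (hex l')) (D_le_QA hK T d'.2), co_el, co_el] at h2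
      have hd := (mem_D hK T).1 d.2
      have hd' := (mem_D hK T).1 d'.2
      have k1 := congrArg Cd.a1 h2
      have k2 := congrArg Cd.a2 h2
      have k6 := congrArg Cd.a6 h2
      have k7 := congrArg Cd.a7 h2
      simp only [hd.1, hd'.1, hd.2.1, hd'.2.1, hd.2.2.1, hd'.2.2.1, hd.2.2.2.1, hd'.2.2.2.1, add_zero] at k1 k2 k6 k7
      rcases hw0 with h | h | h | h
      · exact mul_right_cancel₀ h k1
      · exact mul_right_cancel₀ h k2
      · exact mul_right_cancel₀ h k6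
      · exact mul_right_cancel₀ h k7
    subst hl
    exact Prod.ext rfl (Subtype.ext (mul_left_cancel h1))
  -- `D ≤ R`
  have hRA : R ⊓ A ≤ T.D := fun x hx => hAD x hx.2 (hzR x hx.1)
  have c1 : (R ⊓ A).relIndex A * Nat.card (R ⊓ A : Subgroup U) = Nat.card A := relc inf_le_right
  rw [Subgroup.inf_relIndex_right] at c1
  have hq0 : 0 < Nat.card K := Nat.card_pos
  have hDc : Nat.card T.D ≤ Nat.card (R ⊓ A : Subgroup U) := by
    refine Nat.le_of_mul_le_mul_left ?_ hq0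
    calc Nat.card K * Nat.card T.D ≤ Nat.card A := hcardA
      _ = R.relIndex A * Nat.card (R ⊓ A : Subgroup U) := c1.symm
      _ ≤ Nat.card K * Nat.card (R ⊓ A : Subgroup U) := Nat.mul_le_mul_right _ (hle.trans hidx)
  have hRAD : R ⊓ A = T.D := Subgroup.eq_of_le_of_card_ge hRA hDc
  have hDR : T.D ≤ R := hRAD ▸ inf_le_left
  have hge : (cmod A V1 (⊥ : Subgroup U)).relIndex V1 ≤ R.relIndex A := by
    refine hidx.trans ?_
    rw [hRAD] at c1
    exact Nat.le_of_mul_le_mul_right (hcardA.trans_eq c1.symm) Nat.card_pos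
  obtain ⟨hinv, -⟩ := heq hge
  obtain ⟨r, hr, a, ha, rfl⟩ := mem_sup_of (fun a ha x hx => hnormQ a (hAQ ha) x hx)
    (hinv y (hQN hy) (hER (sq_QA_mem hK T hy)))
  rw [bet_mul hK T (hQA hr) (hAQ ha), hzR r hr, zero_add] at hyz
  exact R.mul_mem hr (hDR (hAD a ha hyz))

/-- the identity behind `x̄ ∈ S0^⊥` -/
theorem alg1 {K : Type*} [Field K] {σ : K →+* K} (h2 : (2 : K) = 0) {t p f h a t' p' f' h' a' : K}
    (ht : t ≠ 0)
    (q1 : p * σ p + a * t + f * σ t = 0) (q2 : a * p + σ f * t + h * σ t = 0) (q3 : f * a + σ h * t + h * σ p = 0)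
    (hu : p * σ p' + a * t' + f * σ t' + (p' * σ p + a' * t + f' * σ t) = 0)
    (hc : a * p' + σ f * t' + h * σ t' + (a' * p + σ f' * t + h' * σ t) = 0)
    (hs : f * a' + σ h * t' + h * σ p' + (f' * a + σ h' * t + h' * σ p) = 0) :
    t * h' + p * f' + f * p' + h * t' = 0 := by
  have key : t ^ 2 * (σ t * σ h' + σ p * σ f' + σ f * σ p' + σ h * σ t') = 0 := by
    have e : t ^ 2 * (σ t * σ h' + σ p * σ f' + σ f * σ p' + σ h * σ t') =
      σ p * (t * (a * p' + σ f * t' + h * σ t' + (a' * p + σ f' * t + h' * σ t)) +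
        p * (p * σ p' + a * t' + f * σ t' + (p' * σ p + a' * t + f' * σ t))) +
      σ t * (t * (f * a' + σ h * t' + h * σ p' + (f' * a + σ h' * t + h' * σ p)) +
        f * (p * σ p' + a * t' + f * σ t' + (p' * σ p + a' * t + f' * σ t))) +
      σ p * (p' * (p * σ p + a * t + f * σ t) + t' * (a * p + σ f * t + h * σ t)) +
      σ t * (f' * (p * σ p + a * t + f * σ t) + t' * (f * a + σ h * t + h * σ p)) +
      σ p' * (p * (p * σ p + a * t + f * σ t) + t * (a * p + σ f * t + h * σ t)) +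
      σ t' * (f * (p * σ p + a * t + f * σ t) + t * (f * a + σ h * t + h * σ p)) := by
      grind
    rw [e, q1, q2, q3, hu, hc, hs]
    ring
  have k2 := (mul_eq_zero.1 key).resolve_left (pow_ne_zero 2 ht)
  have k3 : σ (t * h' + p * f' + f * p' + h * t') = 0 := by
    rw [map_add, map_add, map_add, map_mul, map_mul, map_mul, map_mul]
    exact k2
  exact (map_eq_zero σ).1 k3

theorem sel {K : Type*} [Field K] {σ : K →+* K} {x : K} (h : x * σ x = 0) : x = 0 := by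
  rcases mul_eq_zero.1 h with h | h
  · exact h
  · exact (map_eq_zero σ).1 h

/-- the case `V1 ≤ Z4`: `X2 ≤ E` -/
theorem case_one {K : Type u} [Field K] {σ : K →+* K} {m : ℕ} (hK : HypK σ m) {U : Type v} [Group U] (T : TF σ U)
    {R : Subgroup U} (hER : T.E ≤ R) (hQA : R ≤ T.QA) (hQB : ¬ R ≤ T.QB) (V1 : Subgroup U) (hZ : V1 ≤ T.Z4)
    (hVm : ∀ z, z ∈ V1 ↔ z ∈ T.E ∧ ∀ r ∈ R, bet (co T r) (co T z) = 0) {x : U} (hx : x ∈ R) (hx2 : x ^ 2 ∈ V1)
    (hxr : ∀ r ∈ R, x * r * x⁻¹ * r⁻¹ ∈ V1) : x ∈ T.E := by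
  have h2 := hK.two
  have hxQ := hQA hx
  obtain ⟨r0, hr0, hr0B⟩ := SetLike.not_le_iff_exists.1 hQB
  rw [mem_QB hK] at hr0B
  -- the square
  obtain ⟨B, hsq⟩ := sq_QA hK T hxQ
  obtain ⟨B', hsq'⟩ := (co_Z4 hK T).1 (hZ hx2)
  rw [hsq] at hsq'
  have s1 := congrArg Cd.b2 hsq'
  have s2 := congrArg Cd.a3 hsq'
  have s3 := congrArg Cd.a5 hsq'
  have s4 := congrArg Cd.b6 hsq'
  simp only at s1 s2 s3 s4
  -- commutators
  have hc : ∀ r ∈ R, ((co T x).a2 * σ (co T r).a2 + (co T x).a4 * (co T r).a1 + (co T x).a6 * σ (co T r).a1 +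
        ((co T r).a2 * σ (co T x).a2 + (co T r).a4 * (co T x).a1 + (co T r).a6 * σ (co T x).a1) = 0) ∧
      ((co T x).a4 * (co T r).a2 + σ (co T x).a6 * (co T r).a1 + (co T x).a7 * σ (co T r).a1 +
        ((co T r).a4 * (co T x).a2 + σ (co T r).a6 * (co T x).a1 + (co T r).a7 * σ (co T x).a1) = 0) ∧
      ((co T x).a6 * (co T r).a4 + σ (co T x).a7 * (co T r).a1 + (co T x).a7 * σ (co T r).a2 +
        ((co T r).a6 * (co T x).a4 + σ (co T r).a7 * (co T x).a1 + (co T r).a7 * σ (co T x).a2) = 0) := by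
    intro r hr
    obtain ⟨C, h⟩ := comm_QA hK T hxQ (hQA hr)
    obtain ⟨C', h'⟩ := (co_Z4 hK T).1 (hZ (hxr r hr))
    rw [h] at h'
    exact ⟨congrArg Cd.b2 h', congrArg Cd.a3 h', congrArg Cd.a5 h'⟩
  -- `t = 0`
  have ht : (co T x).a1 = 0 := by
    by_contra ht
    have hm : T.el ⟨0, 0, (co T x).a1, (co T x).a2, 0, 0, (co T x).a6, 0, (co T x).a7, 0, 0, 0⟩ ∈ V1 := by
      rw [hVm]
      refine ⟨(el_mem_E hK T).2 ⟨rfl, rfl, rfl, rfl, rfl, rfl, rfl⟩, fun r hr => ?_⟩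
      rw [co_el, bet]
      have h3 := alg1 (σ := σ) h2 ht s1 s2 s3 (hc r hr).1 (hc r hr).2.1 (hc r hr).2.2
      linear_combination h3
    obtain ⟨C, h⟩ := (co_Z4 hK T).1 (hZ hm)
    rw [co_el] at h
    exact ht (congrArg Cd.b2 h)
  rw [ht] at s1 s2 s3 hc
  simp only [map_zero, mul_zero, add_zero] at s1 s2 s3
  have hp : (co T x).a2 = 0 := sel s1
  rw [hp, map_zero, mul_zero, add_zero] at s3
  rw [hp] at hc
  have hf : (co T x).a6 = 0 := by
    by_contra hf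
    have ha : (co T x).a4 = 0 := (mul_eq_zero.1 s3).resolve_left hf
    rw [hp, ha, mul_zero, mul_zero, add_zero, add_zero] at s4
    exact hf (sel s4)
  rw [hp, hf, mul_zero, zero_mul, zero_add, zero_add] at s4
  rw [hf] at hc
  have hh : (co T x).a7 = 0 := by
    by_contra hh
    have ha : (co T x).a4 = 0 := (mul_eq_zero.1 s4).resolve_left hh
    obtain ⟨-, h3, -⟩ := hc r0 hr0
    rw [ha] at h3
    simp only [map_zero, mul_zero, zero_mul, add_zero, zero_add] at h3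
    exact hr0B ((map_eq_zero σ).1 ((mul_eq_zero.1 h3).resolve_left hh))
  have ha : (co T x).a4 = 0 := by
    obtain ⟨h3, -, -⟩ := hc r0 hr0
    simp only [map_zero, mul_zero, zero_mul, add_zero, zero_add] at h3
    exact (mul_eq_zero.1 h3).resolve_right hr0B
  rw [mem_E hK]
  rw [mem_QA hK] at hxQ
  exact ⟨ht, hp, ha, hf, hh, hxQ.1, hxQ.2⟩

/-- the case `V1 ≰ Z4`: `X2 ≤ E` -/
theorem case_two {K : Type u} [Field K] {σ : K →+* K} {m : ℕ} (hK : HypK σ m) {U : Type v} [Group U] (T : TF σ U)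
    {R : Subgroup U} (hER : T.E ≤ R) (hQA : R ≤ T.QA) (hQB : ¬ R ≤ T.QB) (V1 : Subgroup U)
    (hVm : ∀ z, z ∈ V1 ↔ z ∈ T.E ∧ ∀ r ∈ R, bet (co T r) (co T z) = 0)
    (hmem : ∀ z ∈ V1, z ∉ T.Z4 → ∀ y ∈ T.QA, bet (co T y) (co T z) = 0 → y ∈ R)
    (hne : ∃ z ∈ V1, z ∉ T.Z4) {x : U} (hx : x ∈ R) (hx2 : x ^ 2 ∈ V1)
    (hxr : ∀ r ∈ R, x * r * x⁻¹ * r⁻¹ ∈ V1) : x ∈ T.E := by
  have h2 := hK.two
  have hxQ := hQA hx
  obtain ⟨r0, hr0, hr0B⟩ := SetLike.not_le_iff_exists.1 hQB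
  rw [mem_QB hK] at hr0B
  obtain ⟨z0, hz0, hz04⟩ := hne
  -- `D ≤ R`
  have hDR : T.D ≤ R := by
    intro y hy
    refine hmem z0 hz0 hz04 y (D_le_QA hK T hy) ?_
    rw [mem_D hK] at hy
    rw [bet, hy.1, hy.2.1, hy.2.2.1, hy.2.2.2.1]
    ring
  -- the square
  obtain ⟨B, hsq⟩ := sq_QA hK T hxQ
  have hsqb := ((hVm _).1 hx2).2
  rw [hsq] at hsqb
  simp only [bet] at hsqb
  -- commutators
  have hc : ∀ r ∈ R, ∀ r' ∈ R, (co T r').a1 * ((co T x).a6 * σ (co T r).a6 + σ (co T x).a7 * (co T r).a2 + (co T x).a7 * (co T r).a4 +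
        ((co T r).a6 * σ (co T x).a6 + σ (co T r).a7 * (co T x).a2 + (co T r).a7 * (co T x).a4)) +
      (co T r').a2 * ((co T x).a6 * (co T r).a4 + σ (co T x).a7 * (co T r).a1 + (co T x).a7 * σ (co T r).a2 +
        ((co T r).a6 * (co T x).a4 + σ (co T r).a7 * (co T x).a1 + (co T r).a7 * σ (co T x).a2)) +
      (co T r').a6 * ((co T x).a4 * (co T r).a2 + σ (co T x).a6 * (co T r).a1 + (co T x).a7 * σ (co T r).a1 +
        ((co T r).a4 * (co T x).a2 + σ (co T r).a6 * (co T x).a1 + (co T r).a7 * σ (co T x).a1)) +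
      (co T r').a7 * ((co T x).a2 * σ (co T r).a2 + (co T x).a4 * (co T r).a1 + (co T x).a6 * σ (co T r).a1 +
        ((co T r).a2 * σ (co T x).a2 + (co T r).a4 * (co T x).a1 + (co T r).a6 * σ (co T x).a1)) = 0 := by
    intro r hr r' hr'
    obtain ⟨C, h⟩ := comm_QA hK T hxQ (hQA hr)
    have h' := ((hVm _).1 (hxr r hr)).2 r' hr'
    rw [h] at h'
    simpa only [bet] using h'
  -- the element `z' = [x, x4 1 0]`
  have hx4 : T.x4 1 0 ∈ R := hDR (X4_le_D T (x4_mem T 1 0))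
  obtain ⟨C, hz'⟩ := comm_QA hK T hxQ (X4_le_QA T (x4_mem T 1 0))
  have hz'V := hxr _ hx4
  rw [co_x4] at hz'
  simp only [e4, map_zero, mul_zero, zero_mul, mul_one, one_mul, add_zero, zero_add] at hz'
  set z' := x * T.x4 1 0 * x⁻¹ * (T.x4 1 0)⁻¹ with hz'd
  clear_value z'
  have hz'R := ((hVm _).1 hz'V).2
  rw [hz'] at hz'R
  simp only [bet] at hz'R
  have hm : ∀ y ∈ T.QA, ((co T x).a1 ≠ 0 ∨ (co T x).a2 ≠ 0 ∨ (co T x).a6 ≠ 0 ∨ (co T x).a7 ≠ 0) →
      (co T y).a1 * (co T x).a7 + (co T y).a2 * (co T x).a6 + (co T y).a6 * (co T x).a2 + (co T y).a7 * (co T x).a1 = 0 →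
      y ∈ R := by
    intro y hy h h'
    refine hmem z' hz'V ?_ y hy ?_
    · intro h4
      obtain ⟨C', h5⟩ := (co_Z4 hK T).1 h4
      rw [hz'] at h5
      rcases h with h | h | h | h
      · exact h (congrArg Cd.b2 h5)
      · exact h (congrArg Cd.a3 h5)
      · exact h (congrArg Cd.a5 h5)
      · exact h (congrArg Cd.b6 h5)
    · rw [hz', bet]
      exact h'
  have hel : ∀ t p a f h : K, T.el ⟨t, p, 0, 0, a, 0, 0, f, 0, h, 0, 0⟩ ∈ T.QA := fun t p a f h =>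
    (el_mem_QA hK T).2 ⟨rfl, rfl⟩
  -- `t = 0`
  have ht : (co T x).a1 = 0 := by
    by_contra ht
    have hr : T.el ⟨0, 0, 0, 0, 0, 0, 0, 1, 0, (co T x).a2 / (co T x).a1, 0, 0⟩ ∈ R := by
      refine hm _ (hel _ _ _ _ _) (Or.inl ht) ?_
      rw [co_el]
      simp only [zero_mul, one_mul, zero_add, div_mul_cancel₀ _ ht]
      linear_combination (co T x).a2 * h2
    have h3 := hc _ hr _ hr
    rw [co_el] at h3
    simp only [map_zero, map_one, mul_zero, zero_mul, mul_one, one_mul, add_zero, zero_add] at h3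
    apply ht
    linear_combination h3 - (co T x).a2 / (co T x).a1 * σ (co T x).a1 * h2
  rw [ht] at hsqb hc hz'R hm
  simp only [map_zero, mul_zero, add_zero] at hsqb hc hz'R hm
  have hp : (co T x).a2 = 0 := by
    by_contra hp
    have hr : T.el ⟨0, 0, 0, 0, 0, 0, 0, 0, 0, 1, 0, 0⟩ ∈ R := by
      refine hm _ (hel _ _ _ _ _) (Or.inr (Or.inl hp)) ?_
      rw [co_el]
      simp only [zero_mul, add_zero]
    have h3 := hsqb _ hr
    rw [co_el] at h3
    simp only [zero_mul, one_mul, zero_add] at h3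
    exact hp (sel h3)
  rw [hp] at hsqb hc hz'R hm
  simp only [map_zero, mul_zero, zero_mul, zero_add, add_zero] at hsqb hc hz'R hm
  have hf : (co T x).a6 = 0 := by
    by_contra hf
    have hr : T.el ⟨1, (co T x).a7 / (co T x).a6, 0, 0, 0, 0, 0, 0, 0, 0, 0, 0⟩ ∈ R := by
      refine hm _ (hel _ _ _ _ _) (Or.inr (Or.inr (Or.inl hf))) ?_
      rw [co_el]
      simp only [one_mul, div_mul_cancel₀ _ hf]
      linear_combination (co T x).a7 * h2
    have h3 := hsqb _ hr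
    rw [co_el] at h3
    simp only [zero_mul, one_mul, add_zero] at h3
    have h4 : (co T x).a6 * σ (co T x).a6 = 0 := by
      have h5 : (co T x).a7 / (co T x).a6 * ((co T x).a6 * (co T x).a4) = (co T x).a7 * (co T x).a4 := by
        rw [← mul_assoc, div_mul_cancel₀ _ hf]
      linear_combination h3 - h5 - (co T x).a7 * (co T x).a4 * h2
    exact hf (sel h4)
  rw [hf] at hsqb hc hz'R hm
  simp only [map_zero, mul_zero, zero_mul, zero_add, add_zero] at hsqb hc hz'R hm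
  have hh : (co T x).a7 = 0 := by
    by_contra hh
    exact hr0B ((mul_eq_zero.1 (hz'R r0 hr0)).resolve_right hh)
  rw [hh] at hc
  simp only [map_zero, mul_zero, zero_mul, zero_add, add_zero] at hc
  have ha : (co T x).a4 = 0 := by
    by_contra ha
    have hc' : ∀ r ∈ R, ∀ r' ∈ R, (co T r').a1 * (co T r).a7 + (co T r').a2 * (co T r).a6 + (co T r').a6 * (co T r).a2 +
        (co T r').a7 * (co T r).a1 = 0 := by
      intro r hr r' hr'
      have h3 := hc r hr r' hr'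
      refine (mul_eq_zero.1 (?_ : (co T x).a4 * _ = 0)).resolve_left ha
      linear_combination h3
    obtain ⟨hzE, -⟩ := (hVm z0).1 hz0
    have hm0 : ∀ y ∈ T.QA, (co T y).a1 * (co T z0).b6 + (co T y).a2 * (co T z0).a5 + (co T y).a6 * (co T z0).a3 +
        (co T y).a7 * (co T z0).b2 = 0 → y ∈ R := fun y hy h => hmem z0 hz0 hz04 y hy h
    have hsolve : ∀ t p f h t' p' f' h' : K,
        t * (co T z0).b6 + p * (co T z0).a5 + f * (co T z0).a3 + h * (co T z0).b2 = 0 →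
        t' * (co T z0).b6 + p' * (co T z0).a5 + f' * (co T z0).a3 + h' * (co T z0).b2 = 0 →
        t * h' + p * f' + f * p' + h * t' = 0 := by
      intro t p f h t' p' f' h' k1 k2
      have m1 := hm0 _ (hel t p 0 f h) (by rw [co_el]; exact k1)
      have m2 := hm0 _ (hel t' p' 0 f' h') (by rw [co_el]; exact k2)
      have h3 := hc' _ m2 _ m1
      rw [co_el, co_el] at h3
      exact h3
    by_cases k1 : (co T z0).b2 = 0
    · by_cases k2 : (co T z0).b6 = 0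
      · have h3 := hsolve 1 0 0 0 0 0 0 1 (by rw [k2]; ring) (by rw [k1]; ring)
        apply one_ne_zero (α := K)
        linear_combination h3
      · have h3 := hsolve ((co T z0).a5 / (co T z0).b6) 1 0 0 ((co T z0).a3 / (co T z0).b6) 0 1 0
          (by rw [div_mul_cancel₀ _ k2]; linear_combination (co T z0).a5 * h2)
          (by rw [div_mul_cancel₀ _ k2]; linear_combination (co T z0).a3 * h2)
        apply one_ne_zero (α := K)
        linear_combination h3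
    · have h3 := hsolve 0 1 0 ((co T z0).a5 / (co T z0).b2) 0 0 1 ((co T z0).a3 / (co T z0).b2)
          (by rw [div_mul_cancel₀ _ k1]; linear_combination (co T z0).a5 * h2)
          (by rw [div_mul_cancel₀ _ k1]; linear_combination (co T z0).a3 * h2)
      apply one_ne_zero (α := K)
      linear_combination h3
  rw [mem_E hK]
  rw [mem_QA hK] at hxQ
  exact ⟨ht, hp, ha, hf, hh, hxQ.1, hxQ.2⟩

/-- (B2) -/
theorem stB2'_of (hch : StCh.{v}) (hnx : StNx.{v}) (hff2 : StFF2.{v}) : StB2'.{u, v} := by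
  intro K _ σ m hK U _ T R Γ hE hE4 hV1 hQB hQA
  have h2 := hK.two
  have := finite_U hK T
  obtain ⟨hi0, hiR, hN⟩ := hnx hE
  obtain ⟨hiV, -, hVm, -, -⟩ := hN ⊥ hi0
  obtain ⟨hiX, hVX, hXm, -, -⟩ := hN (nx R ⊥) hiV
  have hZR : T.Z4 ≤ R := (Z4_le_E4 T).trans hE4
  have hZV : T.Z4 ≤ nx R ⊥ := by
    intro z hz
    rw [hVm]
    refine ⟨hZR hz, Subgroup.mem_bot.2 (sq_E hK T (Z4_le_E T hz)), fun r hr => ?_⟩
    obtain ⟨u, rfl⟩ := (mem_Z4 hK T).1 hz
    rw [Subgroup.mem_bot, ← comm_Z4 hK T r u, mul_inv_cancel_right, mul_inv_cancel]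
  have hER : T.E ≤ R := by
    refine hch hE 2 (fun i => match i with | 0 => ⊥ | 1 => nx R ⊥ | _ => R) bot_le rfl ?_ ?_ T.E le_top ?_
    · intro i hi
      interval_cases i
      · exact hi0
      · exact hiV
      · exact hiR
    · intro i hi
      interval_cases i
      · exact bot_le
      · exact hiV.1
    · intro i hi
      interval_cases i
      · intro a ha x hx
        change a * x * a⁻¹ * x⁻¹ ∈ (⊥ : Subgroup U)
        rw [Subgroup.mem_bot, comm_eq_one hK T (E_le_QA hK T ha) (hV1 hx)]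
        exact bet_E hK T ha (hV1 hx)
      · intro a ha x hx
        apply hZV
        have h3 : a * x * a⁻¹ * x⁻¹ = (x * a * x⁻¹ * a⁻¹)⁻¹ := by group
        rw [h3]
        exact T.Z4.inv_mem (comm_mem_Z4 hK T (hQA hx) ha)
  have hVm' : ∀ z, z ∈ nx R ⊥ ↔ z ∈ T.E ∧ ∀ r ∈ R, bet (co T r) (co T z) = 0 := by
    intro z
    constructor
    · intro hz
      refine ⟨hV1 hz, fun r hr => ?_⟩
      rw [← comm_eq_one hK T (hQA hr) (hV1 hz)]
      have h3 := Subgroup.mem_bot.1 (((hVm z).1 hz).2.2 r hr)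
      have h4 : r * z * r⁻¹ * z⁻¹ = (z * r * z⁻¹ * r⁻¹)⁻¹ := by group
      rw [h4, h3, inv_one]
    · rintro ⟨hz, h⟩
      rw [hVm]
      refine ⟨hER hz, Subgroup.mem_bot.2 (sq_E hK T hz), fun r hr => ?_⟩
      have h3 := (comm_eq_one hK T (hQA hr) hz).2 (h r hr)
      have h4 : z * r * z⁻¹ * r⁻¹ = (r * z * r⁻¹ * z⁻¹)⁻¹ := by group
      rw [Subgroup.mem_bot, h4, h3, inv_one]
  -- `X2 = E`
  have hX : nx R (nx R ⊥) = T.E := by
    apply le_antisymm
    · intro x hx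
      obtain ⟨hx1, hx2, hx3⟩ := (hXm x).1 hx
      by_cases hZ : nx R ⊥ ≤ T.Z4
      · exact case_one hK T hER hQA hQB _ hZ hVm' hx1 hx2 hx3
      · refine case_two hK T hER hQA hQB _ hVm' ?_ (SetLike.not_le_iff_exists.1 hZ) hx1 hx2 hx3
        intro z hz hz4 y hy h
        exact ff_step hff2 hK T hE hi0 hER hQA _ hiV hVm' hz hz4 hy h
    · intro x hx
      rw [hXm]
      refine ⟨hER hx, ?_, fun r hr => ?_⟩
      · rw [sq_E hK T hx]
        exact Subgroup.one_mem _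
      · apply hZV
        have h3 : x * r * x⁻¹ * r⁻¹ = (r * x * r⁻¹ * x⁻¹)⁻¹ := by group
        rw [h3]
        exact T.Z4.inv_mem (comm_mem_Z4 hK T (hQA hr) hx)
  rw [hX] at hiX
  -- `Z4 = [R, E]`
  obtain ⟨-, -, -, -, hcR⟩ := hN R hiR
  have hiC := (hcR T.E hiX).1
  have hCZ : comG R T.E = T.Z4 := by
    apply le_antisymm
    · rw [comG, Subgroup.closure_le]
      rintro _ ⟨a, ha, b, hb, rfl⟩
      exact comm_mem_Z4 hK T (hQA ha) hb
    · intro z hz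
      obtain ⟨u, rfl⟩ := (mem_Z4 hK T).1 hz
      obtain ⟨r0, hr0, hr0B⟩ := SetLike.not_le_iff_exists.1 hQB
      rw [mem_QB hK] at hr0B
      refine Subgroup.subset_closure ⟨r0, hr0, T.x6 0 (u / (co T r0).a1), Z6_le_E T (x6_mem_Z T _), ?_⟩
      rw [comm_QAE hK T (hQA hr0) (Z6_le_E T (x6_mem_Z T _)), co_x6, bet]
      simp only [e6, mul_zero, add_zero, mul_div_cancel₀ _ hr0B]
  rw [hCZ] at hiC
  exact fin_step hch hK T hE hi0 hiR hiC hiX hQA

/-- (B2) from the engine -/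
theorem stB2' (e : Cfsg.Agent.H802.TE.Eng.{v}) (hnx : StNx.{v}) (hff2 : StFF2.{v}) : StB2'.{u, v} :=
  stB2'_of e.ch hnx hff2

end Cfsg.Agent.H491.TF.B2
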