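import Mathlib
import Cfsg.Agent.H491.TF.Emb

/-!
# The fusion systems of `²F₄(q) ⋊ (field automorphisms)` (S5262, REAL)
-/

set_option autoImplicit false
set_option linter.unusedSectionVars false

namespace Cfsg.Agent.H491.TF

open Cfsg Cfsg.FusionSystem Cfsg.Agent.H745.TF Cfsg.Agent.H752 Cfsg.Agent.H802 Cfsg.Agent.H756.PU
open Cfsg.Agent.KFacts.TwF4 Cfsg.Agent.KFacts.TwF4.SylU Cfsg.Agent.KFacts.TwF4.Inv Cfsg.Agent.KFacts.TwF4.Arc
open Cfsg.Agent.SplitTwo Cfsg.Agent.SplitTwo.ZS Cfsg.Agent.TitsThree.RankTwoZ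

universe u v w

/-- the elements of `AF F` -/
theorem mem_AF {S : Type u} [Group S] (F : FusionSystem (⊤ : Subgroup S)) (θ : MulAut S) :
    θ ∈ AF F ↔ Mp F ⊤ θ := by
  constructor
  · rintro ⟨α, hα, rfl⟩
    have h1 := (mem_autGroup_iff F le_rfl α).1 hα
    refine ⟨_, h1, fun x hx => ?_⟩
    rfl
  · rintro ⟨φ, hφ, h1⟩
    refine ⟨(MulAut.congr Subgroup.topEquiv).symm θ, ?_, ?_⟩
    · refine (mem_autGroup_iff F le_rfl _).2 ?_
      refine mem_of_apply_eq hφ fun x => ?_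
      exact (h1 x x.2).symm
    · show (MulAut.congr Subgroup.topEquiv) ((MulAut.congr Subgroup.topEquiv).symm θ) = θ
      exact MulEquiv.apply_symm_apply _ _

section

variable {K : Type u} [Field K] {σ : K →+* K} {G : Type w} [Group G] {S : Full σ G} {U : Type v} [Group U]
  {T : Cfsg.Agent.H745.TF.TF σ U} {ι : U →* G} (E : Emb S T ι) {ψ : (K ≃+* K) → MulAut G} (P : Fl S ψ)

/-- the data of a parabolic subgroup -/
structure PD (E : Emb S T ι) (ψ : (K ≃+* K) → MulAut G) (Q : Subgroup U) (n : G) (W : MulAut Q → Prop) : Prop where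
  /-- the form of the normalising elements -/
  norm : ∀ g : G, (∀ x ∈ Q, ∃ y ∈ Q, ι y = g * ι x * g⁻¹) → (∀ x ∈ Q, ∃ y ∈ Q, ι y = g⁻¹ * ι x * g) →
    ∃ b ∈ J S.XZ 1 8, ∃ t ∈ S.T, g = b * t ∨ ∃ b' ∈ J S.XZ 1 8, g = b' * n * (b * t)
  tor : ∀ t ∈ S.T, ∀ x ∈ Q, ∃ y ∈ Q, ι y = t * ι x * t⁻¹
  fld : ∀ τ : K ≃+* K, ∀ x ∈ Q, ∃ y ∈ Q, ι y = ψ τ (ι x)
  nor : ∀ u : U, ∀ x ∈ Q, u * x * u⁻¹ ∈ Q
  refl : ∀ x ∈ Q, ∃ y ∈ Q, ι y = n * ι x * n⁻¹
  refl' : ∀ x ∈ Q, ∃ y ∈ Q, ι y = n⁻¹ * ι x * n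
  wey : ∀ γ : MulAut Q, W γ ↔ ∀ x : Q, ι (γ x : Q) = n * ι x * n⁻¹

variable {Q : Subgroup U} {n : G} {W : MulAut Q → Prop} (R : PD E ψ Q n W)

include R in
/-- conjugation by an element of `U` -/
theorem PD.exists_u (b : U) : ∃ γ ∈ autInducedBy (⊤ : Subgroup U) Q, ∀ x : Q, ι (γ x : Q) = ι b * ι x * (ι b)⁻¹ := by
  have hb : b ∈ Subgroup.normalizer (Q : Set U) := by
    rw [Subgroup.mem_normalizer_iff]
    intro x
    refine ⟨fun hx => R.nor b x hx, fun hx => ?_⟩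
    have h := R.nor b⁻¹ _ hx
    have e : b⁻¹ * (b * x * b⁻¹) * b⁻¹⁻¹ = x := by group
    rwa [e] at h
  obtain ⟨γ, hγ⟩ := exists_conjAut hb
  refine ⟨γ, (mem_autInducedBy_iff _ _ _).2 ⟨b, Subgroup.mem_top _, hγ⟩, fun x => ?_⟩
  rw [hγ, map_mul, map_mul, map_inv]

include R in
theorem PD.exists_n : ∃ γ, W γ ∧ ∀ x : Q, ι (γ x : Q) = n * ι x * n⁻¹ := by
  obtain ⟨γ, hγ⟩ := exists_lift (ι.comp Q.subtype) (E.inj.comp Subtype.coe_injective) (MulAut.conj n) (fun x => by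
    obtain ⟨y, hy, h⟩ := R.refl x x.2
    exact ⟨⟨y, hy⟩, h⟩) (fun x => by
    obtain ⟨y, hy, h⟩ := R.refl' x x.2
    refine ⟨⟨y, hy⟩, h.trans ?_⟩
    rw [← map_inv, MulAut.conj_apply, inv_inv]
    rfl)
  exact ⟨γ, (R.wey γ).2 hγ, hγ⟩

include P R in
/-- the restriction of a torus automorphism -/
theorem PD.exists_res {d : MulAut U} {t : G} (ht : t ∈ S.T) {τ : K ≃+* K} (h : ∀ x, ι (d x) = t * ψ τ (ι x) * t⁻¹) :
    ∃ δ : MulAut Q, TF.IsR d δ := by
  have h1 : ∀ x ∈ Q, d x ∈ Q := by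
    intro x hx
    obtain ⟨y, hy, h2⟩ := R.fld τ x hx
    obtain ⟨z, hz, h3⟩ := R.tor t ht y hy
    have : d x = z := E.inj (by rw [h, h3, h2])
    rw [this]; exact hz
  have h1' : ∀ x ∈ Q, d⁻¹ x ∈ Q := by
    intro x hx
    obtain ⟨z, hz, h3⟩ := R.tor t⁻¹ (inv_mem ht) x hx
    obtain ⟨y, hy, h2⟩ := R.fld τ.symm z hz
    have : x = d y := E.inj (by
      rw [h, h2, h3, P.symm, MulAut.apply_inv_self]
      group)
    rw [this, MulAut.inv_apply_self]; exact hy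
  refine ⟨{ toFun := fun x => ⟨d x, h1 x x.2⟩
            invFun := fun x => ⟨d⁻¹ x, h1' x x.2⟩
            left_inv := fun x => Subtype.ext (MulAut.inv_apply_self _ d _)
            right_inv := fun x => Subtype.ext (MulAut.apply_inv_self _ d _)
            map_mul' := fun x y => Subtype.ext (map_mul d _ _) }, fun e => rfl⟩

variable {D : Subgroup (MulAut U)} {F : FusionSystem (⊤ : Subgroup U)}

include E P R in
/-- **The automorphism group of a parabolic subgroup.** -/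
theorem PD.std [Finite K] (hA : T.HasA D) (hB : T.HasB D) (hD : D ≤ T.TT)
    (hF : ∀ (Q : Subgroup U) (f : U → U), Mp F Q f ↔ ∃ d ∈ D, ∃ t ∈ S.T, ∃ τ : K ≃+* K,
      (∀ x, ι (d x) = t * ψ τ (ι x) * t⁻¹) ∧ ∃ g : G, ∀ x ∈ Q, ι (f x) = g * ψ τ (ι x) * g⁻¹) :
    TF.Std (autInducedBy ⊤ Q ⊔ Subgroup.closure {γ | W γ}) (F.autGroup Q) D := by
  classical
  -- the elements of the automorphism group
  have hmem : ∀ γ : MulAut Q, γ ∈ F.autGroup Q ↔ ∃ d ∈ D, ∃ t ∈ S.T, ∃ τ : K ≃+* K,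
      (∀ x, ι (d x) = t * ψ τ (ι x) * t⁻¹) ∧ ∃ g : G, ∀ x : Q, ι (γ x : Q) = g * ψ τ (ι x) * g⁻¹ := by
    intro γ
    rw [mem_autGroup_iff F le_top]
    let φ : Q →* U := Q.subtype.comp γ.toMonoidHom
    have h1 : φ ∈ F.Hom Q ↔ Mp F Q (ex φ) := by
      constructor
      · exact fun h => mp_ex h
      · intro h
        exact h.mem_hom fun x hx => (ex_apply (φ : Q → U) hx).symm
    show φ ∈ F.Hom Q ↔ _
    rw [h1, hF]
    constructor
    · rintro ⟨d, hd, t, ht, τ, h2, g, h3⟩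
      refine ⟨d, hd, t, ht, τ, h2, g, fun x => ?_⟩
      rw [← h3 x x.2, ex_coe]
      rfl
    · rintro ⟨d, hd, t, ht, τ, h2, g, h3⟩
      refine ⟨d, hd, t, ht, τ, h2, g, fun x hx => ?_⟩
      rw [ex_apply (φ : Q → U) hx]
      exact h3 ⟨x, hx⟩
  have hone : ∀ x : G, ψ (RingEquiv.refl K) x = x := fun x => by rw [P.refl]; rfl
  -- `Λ ≤ Γ`
  have hle : autInducedBy ⊤ Q ⊔ Subgroup.closure {γ | W γ} ≤ F.autGroup Q := by
    refine sup_le (autInducedBy_le_autGroup F le_top) ?_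
    rw [Subgroup.closure_le]
    intro γ hγ
    refine (hmem γ).2 ⟨1, one_mem _, 1, one_mem _, RingEquiv.refl K, fun x => by rw [hone]; simp, n, fun x => ?_⟩
    rw [(R.wey γ).1 hγ, hone]
  have hu : ∀ b ∈ J S.XZ 1 8, ∃ γ ∈ autInducedBy (⊤ : Subgroup U) Q, ∀ x : Q, ι (γ x : Q) = b * ι x * b⁻¹ := by
    intro b hb
    obtain ⟨b, rfl⟩ := E.surj hb
    exact R.exists_u E b
  intro γ
  constructor
  · intro hγ
    obtain ⟨d, hd, t, ht, τ, h1, g, h2⟩ := (hmem γ).1 hγ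
    -- `g` normalises `Q`
    obtain ⟨b, hb, s, hs, hg⟩ := R.norm g (fun x hx => by
      obtain ⟨y, hy, h3⟩ := R.fld τ.symm x hx
      refine ⟨γ ⟨y, hy⟩, (γ _).2, ?_⟩
      rw [h2]
      show g * ψ τ (ι y) * g⁻¹ = _
      rw [h3, P.symm, MulAut.apply_inv_self]) (fun x hx => by
      have h3 := h2 (γ⁻¹ ⟨x, hx⟩)
      rw [MulAut.apply_inv_self] at h3
      obtain ⟨y, hy, h4⟩ := R.fld τ (γ⁻¹ ⟨x, hx⟩ : Q) (γ⁻¹ ⟨x, hx⟩ : Q).2
      refine ⟨y, hy, ?_⟩
      rw [h4]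
      show _ = g⁻¹ * ι ((⟨x, hx⟩ : Q) : U) * g
      rw [h3]
      group)
    -- the torus part
    obtain ⟨d', hd', h3⟩ := full_torus E P hA hB (mul_mem hs (inv_mem ht))
    have h4 : ∀ x, ι ((d' * d) x) = s * ψ τ (ι x) * s⁻¹ := by
      intro x
      rw [MulAut.mul_apply, h3, h1]
      group
    obtain ⟨δ, hδ⟩ := R.exists_res E P hs h4
    obtain ⟨lb, hlb, hlb'⟩ := hu b hb
    rcases hg with hg | ⟨b', hb', hg⟩
    · refine ⟨lb, (le_sup_left : autInducedBy ⊤ Q ≤ _) hlb, d' * d, mul_mem hd' hd, δ, hδ, ?_⟩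
      apply MulEquiv.ext
      intro x
      apply Subtype.ext
      apply E.inj
      rw [h2, MulAut.mul_apply, hlb', hδ, h4, hg]
      group
    · obtain ⟨lb2, hlb2, hlb2'⟩ := hu b' hb'
      obtain ⟨ν, hν, hν'⟩ := R.exists_n E
      refine ⟨lb2 * ν * lb, mul_mem (mul_mem ((le_sup_left : autInducedBy ⊤ Q ≤ _) hlb2)
        ((le_sup_right : Subgroup.closure {γ | W γ} ≤ _) (Subgroup.subset_closure hν)))
        ((le_sup_left : autInducedBy ⊤ Q ≤ _) hlb), d' * d, mul_mem hd' hd, δ, hδ, ?_⟩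
      apply MulEquiv.ext
      intro x
      apply Subtype.ext
      apply E.inj
      rw [h2, MulAut.mul_apply, MulAut.mul_apply, MulAut.mul_apply, hlb2', hν', hlb', hδ, h4, hg]
      group
  · rintro ⟨l, hl, d, hd, δ, hδ, rfl⟩
    refine mul_mem (hle hl) ?_
    obtain ⟨t, ht, τ, h1⟩ := mem_TT E P (hD hd)
    refine (hmem δ).2 ⟨d, hd, t, ht, τ, h1, t, fun x => ?_⟩
    rw [hδ, h1]

include E P in
/-- **The fusion systems**, abstract form. -/
theorem real_full [Finite K] [Finite G] (hR : S.R.p = 2) (hD : D ≤ T.TT) (hDc : (Nat.card D).Coprime 2)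
    (hA : T.HasA D) (hB : T.HasB D) :
    ∃ F : FusionSystem (⊤ : Subgroup U), F.IsSaturated 2 ∧ F.IsRealizable 2 ∧
      AF F = (MulAut.conj : U →* MulAut U).range ⊔ D ∧
      (∀ (Q : Subgroup U) (f : U → U), Mp F Q f ↔ ∃ d ∈ D, ∃ t ∈ S.T, ∃ τ : K ≃+* K,
      (∀ x, ι (d x) = t * ψ τ (ι x) * t⁻¹) ∧ ∃ g : G, ∀ x ∈ Q, ι (f x) = g * ψ τ (ι x) * g⁻¹) := by
  classical
  have hfact : Fact (Nat.Prime 2) := ⟨Nat.prime_two⟩
  have hfin : Finite U := Finite.of_injective ι E.inj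
  have hone : ∀ x : G, ψ (RingEquiv.refl K) x = x := fun x => by rw [P.refl]; rfl
  obtain ⟨Py, hPy⟩ := exists_sylow S hR
  let e : U ≃* ↥(Py : Subgroup G) := (MonoidHom.ofInjective E.inj).trans
    (MulEquiv.subgroupCongr (E.range_eq.trans hPy.symm))
  have he : ∀ x, ((e x : ↥(Py : Subgroup G)) : G) = ι x := fun x => rfl
  -- the homomorphism `D → Aut G`
  choose t ht τ h1 using fun d : D => mem_TT E P (hD d.2)
  have huniq : ∀ (d : D) {t' : G} (_ : t' ∈ S.T) {τ' : K ≃+* K}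
      (_ : ∀ x, ι ((d : MulAut U) x) = t' * ψ τ' (ι x) * t'⁻¹), ψ (τ d) = ψ τ' := by
    intro d t' ht' τ' h'
    rw [rep_unique E P (ht d) ht' (h1 d) h']
  let Θ : D →* MulAut G := MonoidHom.mk' (fun d => ψ (τ d)) fun d d' => by
    rw [← P.trans]
    refine huniq (d * d') (mul_mem (ht d) (P.mem_T (τ d) (ht d'))) (τ' := (τ d').trans (τ d)) fun x => ?_
    rw [Subgroup.coe_mul, MulAut.mul_apply, h1, h1, P.trans, MulAut.mul_apply, map_mul, map_mul, map_inv]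
    group
  have hΘ : ∀ d, Θ d = ψ (τ d) := fun d => rfl
  have hAc : (Nat.card Θ.range).Coprime 2 :=
    Nat.Coprime.coprime_dvd_left (Subgroup.card_dvd_of_surjective Θ.rangeRestrict Θ.rangeRestrict_surjective) hDc
  obtain ⟨F, hF1, hF2, hF3⟩ := Cfsg.Agent.H491.FS.exists_real_aut Py e Θ.range hAc
  have hF4 : ∀ (Q : Subgroup U) (f : U → U), Mp F Q f ↔ ∃ d ∈ D, ∃ t ∈ S.T, ∃ τ : K ≃+* K,
      (∀ x, ι (d x) = t * ψ τ (ι x) * t⁻¹) ∧ ∃ g : G, ∀ x ∈ Q, ι (f x) = g * ψ τ (ι x) * g⁻¹ := by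
    intro Q f
    rw [hF3]
    constructor
    · rintro ⟨_, ⟨d, rfl⟩, g, hg⟩
      exact ⟨d, d.2, t d, ht d, τ d, h1 d, g, hg⟩
    · rintro ⟨d, hd, t', ht', τ', h', g, hg⟩
      refine ⟨Θ ⟨d, hd⟩, ⟨_, rfl⟩, g, fun x hx => ?_⟩
      rw [hΘ, huniq ⟨d, hd⟩ ht' h']
      exact hg x hx
  refine ⟨F, hF1, hF2, ?_, hF4⟩
  apply le_antisymm
  · intro θ hθ
    obtain ⟨d, hd, t', ht', τ', h', g, hg⟩ := (hF4 _ _).1 ((mem_AF F θ).1 hθ)
    obtain ⟨b, hb, s, hs, rfl⟩ := norm_U S (g := g) (fun y hy => by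
      obtain ⟨x, hx⟩ := E.surj ((P.J τ'.symm y).2 hy)
      have h2 := hg x (Subgroup.mem_top _)
      rw [hx, P.symm, MulAut.apply_inv_self] at h2
      rw [← h2]
      exact E.mem _) (fun y hy => by
      obtain ⟨x, rfl⟩ := E.surj hy
      have h2 := hg (θ⁻¹ x) (Subgroup.mem_top _)
      rw [MulAut.apply_inv_self] at h2
      rw [h2]
      have e1 : g⁻¹ * (g * ψ τ' (ι (θ⁻¹ x)) * g⁻¹) * g = ψ τ' (ι (θ⁻¹ x)) := by group
      rw [e1]
      exact (P.J _ _).2 (E.mem _))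
    obtain ⟨b, rfl⟩ := E.surj hb
    obtain ⟨d', hd', h3⟩ := full_torus E P hA hB (mul_mem hs (inv_mem ht'))
    have h4 : θ = MulAut.conj b * (d' * d) := by
      apply MulEquiv.ext
      intro x
      apply E.inj
      rw [hg x (Subgroup.mem_top _), MulAut.mul_apply, MulAut.mul_apply, MulAut.conj_apply, map_mul, map_mul,
        map_inv, h3, h']
      group
    rw [h4]
    exact mul_mem ((le_sup_left : (MulAut.conj : U →* MulAut U).range ≤ _) ⟨_, rfl⟩)
      ((le_sup_right : D ≤ _) (mul_mem hd' hd))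
  · refine sup_le ?_ ?_
    · rintro _ ⟨u, rfl⟩
      refine (mem_AF F _).2 ((hF4 _ _).2 ⟨1, one_mem _, 1, one_mem _, RingEquiv.refl K, fun x => ?_, ι u,
        fun x _ => ?_⟩)
      · rw [hone]; simp
      · rw [MulAut.conj_apply, map_mul, map_mul, map_inv, hone]
    · intro d hd
      obtain ⟨t', ht', τ', h'⟩ := mem_TT E P (hD hd)
      exact (mem_AF F _).2 ((hF4 _ _).2 ⟨d, hd, t', ht', τ', h', t', fun x _ => h' x⟩)

/-! ### the two parabolic subgroups -/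

include E P in
theorem pdA : PD E ψ T.QA S.n2 T.IsWa where
  norm := by
    intro g h1 h2
    obtain ⟨b, hb, t, ht, h | ⟨b', hb', h⟩⟩ := norm_Q S (g := g) (fun y hy => by
      obtain ⟨x, rfl⟩ := E.surj (J_mono le_rfl (by norm_num) hy)
      obtain ⟨y, hy', h3⟩ := h2 x ((E.mem_QA x).2 hy)
      rw [← h3]
      exact (E.mem_QA y).1 hy')
    · exact ⟨b, hb, t, ht, Or.inl h⟩
    · -- `b t n2 b' = b n2 (t' b' t'⁻¹) t'`
      have ht' : S.n2⁻¹ * t * S.n2 ∈ S.T := by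
        obtain ⟨c, d, rfl⟩ := S.mem_T.1 ht
        refine S.mem_T.2 ⟨c⁻¹, d / Units.map (σ : K →* K) c, ?_⟩
        rw [← S.n2_h, n2_inv]
      refine ⟨(S.n2⁻¹ * t * S.n2) * b' * (S.n2⁻¹ * t * S.n2)⁻¹, S.T_conj_J ht' hb', S.n2⁻¹ * t * S.n2, ht',
        Or.inr ⟨b, hb, ?_⟩⟩
      rw [h]
      group
  tor := by
    intro t ht x hx
    have h1 := S.T_conj_J ht ((E.mem_QA x).1 hx)
    obtain ⟨y, hy⟩ := E.surj (J_mono le_rfl (by norm_num) h1)
    exact ⟨y, (E.mem_QA y).2 (by rw [hy]; exact h1), hy⟩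
  fld := by
    intro τ x hx
    have h1 := P.J_le τ ((E.mem_QA x).1 hx)
    obtain ⟨y, hy⟩ := E.surj (J_mono le_rfl (by norm_num) h1)
    exact ⟨y, (E.mem_QA y).2 (by rw [hy]; exact h1), hy⟩
  nor := by
    intro u x hx
    rw [E.mem_QA] at hx ⊢
    rw [map_mul, map_mul, map_inv]
    exact U_J17 S _ (E.mem u) _ hx
  refl := by
    intro x hx
    have h1 := S.n2_refl.mem_J (a' := 1) (b' := 7) ((E.mem_QA x).1 hx) (by norm_num) (by norm_num)
    obtain ⟨y, hy⟩ := E.surj (J_mono le_rfl (by norm_num) h1)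
    exact ⟨y, (E.mem_QA y).2 (by rw [hy]; exact h1), hy⟩
  refl' := by
    intro x hx
    have h1 := S.n2_refl.mem_J_inv (a' := 1) (b' := 7) ((E.mem_QA x).1 hx) (by norm_num) (by norm_num)
    obtain ⟨y, hy⟩ := E.surj (J_mono le_rfl (by norm_num) h1)
    exact ⟨y, (E.mem_QA y).2 (by rw [hy]; exact h1), hy⟩
  wey := by
    intro γ
    constructor
    · intro h
      -- the elements where the two homomorphisms agree
      let L : Subgroup T.QA := MonoidHom.eqLocus ((ι.comp T.QA.subtype).comp γ.toMonoidHom)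
        ((MulAut.conj S.n2).toMonoidHom.comp (ι.comp T.QA.subtype))
      have hL : ∀ x : T.QA, x ∈ L ↔ ι (γ x : T.QA) = S.n2 * ι x * S.n2⁻¹ := fun x => Iff.rfl
      have h1 : J S.XZ 1 7 ≤ (L.map T.QA.subtype).map ι := by
        have hq : ∀ x : U, ι x ∈ J S.XZ 1 7 → x ∈ T.QA := fun x hx => (E.mem_QA x).2 hx
        have key : ∀ (x : U) (hx : x ∈ T.QA), ι (γ ⟨x, hx⟩ : T.QA) = S.n2 * ι x * S.n2⁻¹ →
            x ∈ L.map T.QA.subtype := fun x hx h => ⟨⟨x, hx⟩, h, rfl⟩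
        refine J_le fun k h1 h2 => E.X_le_map h1 (by omega) ?_ ?_ ?_ ?_ ?_ ?_ ?_ ?_
        · intro _ t
          refine key _ (hq _ (by rw [E.e1]; exact mem_J (S.mX1 t) (by norm_num) (by norm_num))) ?_
          rw [h.e1 _ t rfl, E.e1, E.e7, S.n2_o]; rfl
        · intro _ p u
          refine key _ (hq _ (by rw [E.e2]; exact mem_J (S.mX2 p u) (by norm_num) (by norm_num))) ?_
          rw [h.e2 _ p u rfl, E.e2, E.e6, S.n2_e]; rfl
        · intro _ t
          refine key _ (hq _ (by rw [E.e3]; exact mem_J (S.mX3 t) (by norm_num) (by norm_num))) ?_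
          rw [h.e3 _ t rfl, E.e3, E.e5, S.n2_o]; rfl
        · intro _ p u
          refine key _ (hq _ (by rw [E.e4]; exact mem_J (S.mX4 p u) (by norm_num) (by norm_num))) ?_
          rw [h.e4 _ p u rfl, E.e4, S.n2_e]; rfl
        · intro _ t
          refine key _ (hq _ (by rw [E.e5]; exact mem_J (S.mX5 t) (by norm_num) (by norm_num))) ?_
          rw [h.e5 _ t rfl, E.e5, E.e3, S.n2_o]; rfl
        · intro _ p u
          refine key _ (hq _ (by rw [E.e6]; exact mem_J (S.mX6 p u) (by norm_num) (by norm_num))) ?_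
          rw [h.e6 _ p u rfl, E.e6, E.e2, S.n2_e]; rfl
        · intro _ t
          refine key _ (hq _ (by rw [E.e7]; exact mem_J (S.mX7 t) (by norm_num) (by norm_num))) ?_
          rw [h.e7 _ t rfl, E.e7, E.e1, S.n2_o]; rfl
        · intro h
          omega
      intro x
      obtain ⟨_, ⟨y, hy, rfl⟩, h2⟩ := h1 ((E.mem_QA x).1 x.2)
      have h3 : y = x := Subtype.ext (E.inj h2)
      rw [h3] at hy
      exact hy
    · intro h
      refine ⟨?_, ?_, ?_, ?_, ?_, ?_, ?_⟩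
      · intro e t he
        apply E.inj
        rw [h, he, E.e1, E.e7, S.n2_o]; rfl
      · intro e p u he
        apply E.inj
        rw [h, he, E.e2, E.e6, S.n2_e]; rfl
      · intro e t he
        apply E.inj
        rw [h, he, E.e3, E.e5, S.n2_o]; rfl
      · intro e p u he
        apply E.inj
        rw [h, he, E.e4, S.n2_e]; rfl
      · intro e t he
        apply E.inj
        rw [h, he, E.e5, E.e3, S.n2_o]; rfl
      · intro e p u he
        apply E.inj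
        rw [h, he, E.e6, E.e2, S.n2_e]; rfl
      · intro e t he
        apply E.inj
        rw [h, he, E.e7, E.e1, S.n2_o]; rfl

include E P in
theorem pdB : PD E ψ T.QB S.n1 T.IsWb where
  norm := by
    intro g h1 h2
    exact norm_J28 S (g := g) (fun y hy => by
      obtain ⟨x, rfl⟩ := E.surj (J_mono (by norm_num) le_rfl hy)
      obtain ⟨y, hy', h3⟩ := h1 x ((E.mem_QB x).2 hy)
      rw [← h3]
      exact (E.mem_QB y).1 hy') (fun y hy => by
      obtain ⟨x, rfl⟩ := E.surj (J_mono (by norm_num) le_rfl hy)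
      obtain ⟨y, hy', h3⟩ := h2 x ((E.mem_QB x).2 hy)
      rw [← h3]
      exact (E.mem_QB y).1 hy')
  tor := by
    intro t ht x hx
    have h1 := S.T_conj_J ht ((E.mem_QB x).1 hx)
    obtain ⟨y, hy⟩ := E.surj (J_mono (by norm_num) le_rfl h1)
    exact ⟨y, (E.mem_QB y).2 (by rw [hy]; exact h1), hy⟩
  fld := by
    intro τ x hx
    have h1 := P.J_le τ ((E.mem_QB x).1 hx)
    obtain ⟨y, hy⟩ := E.surj (J_mono (by norm_num) le_rfl h1)
    exact ⟨y, (E.mem_QB y).2 (by rw [hy]; exact h1), hy⟩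
  nor := by
    intro u x hx
    rw [E.mem_QB] at hx ⊢
    rw [map_mul, map_mul, map_inv]
    exact U_J28 S _ (E.mem u) _ hx
  refl := by
    intro x hx
    have h1 := S.n1_refl.mem_J (a' := 2) (b' := 8) ((E.mem_QB x).1 hx) (by norm_num) (by norm_num)
    obtain ⟨y, hy⟩ := E.surj (J_mono (by norm_num) le_rfl h1)
    exact ⟨y, (E.mem_QB y).2 (by rw [hy]; exact h1), hy⟩
  refl' := by
    intro x hx
    have h1 := S.n1_refl.mem_J_inv (a' := 2) (b' := 8) ((E.mem_QB x).1 hx) (by norm_num) (by norm_num)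
    obtain ⟨y, hy⟩ := E.surj (J_mono (by norm_num) le_rfl h1)
    exact ⟨y, (E.mem_QB y).2 (by rw [hy]; exact h1), hy⟩
  wey := by
    intro γ
    constructor
    · intro h
      let L : Subgroup T.QB := MonoidHom.eqLocus ((ι.comp T.QB.subtype).comp γ.toMonoidHom)
        ((MulAut.conj S.n1).toMonoidHom.comp (ι.comp T.QB.subtype))
      have h1 : J S.XZ 2 8 ≤ (L.map T.QB.subtype).map ι := by
        have hq : ∀ x : U, ι x ∈ J S.XZ 2 8 → x ∈ T.QB := fun x hx => (E.mem_QB x).2 hx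
        have key : ∀ (x : U) (hx : x ∈ T.QB), ι (γ ⟨x, hx⟩ : T.QB) = S.n1 * ι x * S.n1⁻¹ →
            x ∈ L.map T.QB.subtype := fun x hx h => ⟨⟨x, hx⟩, h, rfl⟩
        refine J_le fun k h1 h2 => E.X_le_map (by omega) h2 ?_ ?_ ?_ ?_ ?_ ?_ ?_ ?_
        · intro h
          omega
        · intro _ p u
          refine key _ (hq _ (by rw [E.e2]; exact mem_J (S.mX2 p u) (by norm_num) (by norm_num))) ?_
          rw [h.e2 _ p u rfl, E.e2, E.e8, S.n1_e]; rfl
        · intro _ t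
          refine key _ (hq _ (by rw [E.e3]; exact mem_J (S.mX3 t) (by norm_num) (by norm_num))) ?_
          rw [h.e3 _ t rfl, E.e3, E.e7, S.n1_o]; rfl
        · intro _ p u
          refine key _ (hq _ (by rw [E.e4]; exact mem_J (S.mX4 p u) (by norm_num) (by norm_num))) ?_
          rw [h.e4 _ p u rfl, E.e4, E.e6, S.n1_e]; rfl
        · intro _ t
          refine key _ (hq _ (by rw [E.e5]; exact mem_J (S.mX5 t) (by norm_num) (by norm_num))) ?_
          rw [h.e5 _ t rfl, E.e5, S.n1_o]; rfl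
        · intro _ p u
          refine key _ (hq _ (by rw [E.e6]; exact mem_J (S.mX6 p u) (by norm_num) (by norm_num))) ?_
          rw [h.e6 _ p u rfl, E.e6, E.e4, S.n1_e]; rfl
        · intro _ t
          refine key _ (hq _ (by rw [E.e7]; exact mem_J (S.mX7 t) (by norm_num) (by norm_num))) ?_
          rw [h.e7 _ t rfl, E.e7, E.e3, S.n1_o]; rfl
        · intro _ p u
          refine key _ (hq _ (by rw [E.e8]; exact mem_J (S.mX8 p u) (by norm_num) (by norm_num))) ?_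
          rw [h.e8 _ p u rfl, E.e8, E.e2, S.n1_e]; rfl
      intro x
      obtain ⟨_, ⟨y, hy, rfl⟩, h2⟩ := h1 ((E.mem_QB x).1 x.2)
      have h3 : y = x := Subtype.ext (E.inj h2)
      rw [h3] at hy
      exact hy
    · intro h
      refine ⟨?_, ?_, ?_, ?_, ?_, ?_, ?_⟩
      · intro e p u he
        apply E.inj
        rw [h, he, E.e2, E.e8, S.n1_e]; rfl
      · intro e t he
        apply E.inj
        rw [h, he, E.e3, E.e7, S.n1_o]; rfl
      · intro e p u he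
        apply E.inj
        rw [h, he, E.e4, E.e6, S.n1_e]; rfl
      · intro e t he
        apply E.inj
        rw [h, he, E.e5, S.n1_o]; rfl
      · intro e p u he
        apply E.inj
        rw [h, he, E.e6, E.e4, S.n1_e]; rfl
      · intro e t he
        apply E.inj
        rw [h, he, E.e7, E.e3, S.n1_o]; rfl
      · intro e p u he
        apply E.inj
        rw [h, he, E.e8, E.e2, S.n1_e]; rfl

end

end Cfsg.Agent.H491.TF
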