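import Mathlib
import Cfsg.Agent.H491.TF.Real
import Cfsg.Agent.H659.TF.Ump

/-!
# (REAL) of S5262: the fusion systems of `²F₄(q) ⋊ (field automorphisms)`, all `q`
-/

set_option autoImplicit false
set_option linter.unusedSectionVars false

namespace Cfsg.Agent.H491.TF

open Cfsg Cfsg.FusionSystem Cfsg.Agent.H745.TF Cfsg.Lie
open Cfsg.Agent.KFacts.TwF4 Cfsg.Agent.KFacts.TwF4.Inst
open Cfsg.Agent.SplitTwo Cfsg.Agent.SplitTwo.ZS Cfsg.Agent.TitsThree.RankTwoZ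
open Cfsg.Agent.ChevalleyStructure.TwF4.TwistedFix

universe u v w

section

variable {K : Type u} [Field K] {σ : K →+* K} {G : Type w} [Group G] (S : Full σ G) {U : Type v} [Group U]
  (T : Cfsg.Agent.H745.TF.TF σ U)

theorem peel {k : ℤ} (hk : 1 ≤ k) {x r : G} (hx : x ∈ S.XZ k) (hr : r ∈ J S.XZ (k + 1) 8) (h : x * r = 1) :
    x = 1 ∧ r = 1 := by
  have h1 : x = r⁻¹ := eq_inv_of_mul_eq_one_left h
  have h2 : x ∈ J S.XZ (k + 1) (k + 8 - 1) := by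
    rw [h1]
    exact J_mono le_rfl (by omega) (inv_mem hr)
  have h3 := S.zsys8.inter k x hx h2
  rw [h3, one_mul] at h
  exact ⟨h3, h⟩

/-- **`U` embeds into `²F₄(q)`** -/
theorem exists_emb : ∃ ι : U →* G, Emb S T ι := by
  obtain ⟨ι, e1, e2, e3, e4, e5, e6, e7, e8⟩ := Cfsg.Agent.H659.TF.ump T S.rel
  refine ⟨ι, ?_, e1, e2, e3, e4, e5, e6, e7, e8⟩
  rw [injective_iff_map_eq_one]
  intro x hx
  obtain ⟨c, rfl⟩ := T.bij.2 x
  have R := T.rel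
  simp only [map_mul, e1, e2, e3, e4, e5, e6, e7, e8] at hx
  have m8 : S.e 4 c.a8 c.b8 ∈ J S.XZ (7 + 1) 8 := mem_J (S.mX8 _ _) (by norm_num) (by norm_num)
  have m7 : S.o 3 c.a7 * S.e 4 c.a8 c.b8 ∈ J S.XZ (6 + 1) 8 :=
    mul_mem (mem_J (S.mX7 _) (by norm_num) (by norm_num)) (J_mono (by norm_num) le_rfl m8)
  have m6 : S.e 3 c.a6 c.b6 * (S.o 3 c.a7 * S.e 4 c.a8 c.b8) ∈ J S.XZ (5 + 1) 8 :=
    mul_mem (mem_J (S.mX6 _ _) (by norm_num) (by norm_num)) (J_mono (by norm_num) le_rfl m7)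
  have m5 : S.o 2 c.a5 * (S.e 3 c.a6 c.b6 * (S.o 3 c.a7 * S.e 4 c.a8 c.b8)) ∈ J S.XZ (4 + 1) 8 :=
    mul_mem (mem_J (S.mX5 _) (by norm_num) (by norm_num)) (J_mono (by norm_num) le_rfl m6)
  have m4 : S.e 2 c.a4 c.b4 * (S.o 2 c.a5 * (S.e 3 c.a6 c.b6 * (S.o 3 c.a7 * S.e 4 c.a8 c.b8))) ∈ J S.XZ (3 + 1) 8 :=
    mul_mem (mem_J (S.mX4 _ _) (by norm_num) (by norm_num)) (J_mono (by norm_num) le_rfl m5)
  have m3 : S.o 1 c.a3 * (S.e 2 c.a4 c.b4 * (S.o 2 c.a5 * (S.e 3 c.a6 c.b6 * (S.o 3 c.a7 * S.e 4 c.a8 c.b8)))) ∈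
      J S.XZ (2 + 1) 8 :=
    mul_mem (mem_J (S.mX3 _) (by norm_num) (by norm_num)) (J_mono (by norm_num) le_rfl m4)
  have m2 : S.e 1 c.a2 c.b2 * (S.o 1 c.a3 * (S.e 2 c.a4 c.b4 * (S.o 2 c.a5 * (S.e 3 c.a6 c.b6 * (S.o 3 c.a7 *
      S.e 4 c.a8 c.b8))))) ∈ J S.XZ (1 + 1) 8 :=
    mul_mem (mem_J (S.mX2 _ _) (by norm_num) (by norm_num)) (J_mono (by norm_num) le_rfl m3)
  simp only [mul_assoc] at hx
  obtain ⟨h1, hx⟩ := peel S (by norm_num) (S.mX1 _) m2 hx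
  obtain ⟨h2, hx⟩ := peel S (by norm_num) (S.mX2 _ _) m3 hx
  obtain ⟨h3, hx⟩ := peel S (by norm_num) (S.mX3 _) m4 hx
  obtain ⟨h4, hx⟩ := peel S (by norm_num) (S.mX4 _ _) m5 hx
  obtain ⟨h5, hx⟩ := peel S (by norm_num) (S.mX5 _) m6 hx
  obtain ⟨h6, hx⟩ := peel S (by norm_num) (S.mX6 _ _) m7 hx
  obtain ⟨h7, h8⟩ := peel S (by norm_num) (S.mX7 _) m8 hx
  have k1 := S.o_eq_one h1
  have k3 := S.o_eq_one h3
  have k5 := S.o_eq_one h5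
  have k7 := S.o_eq_one h7
  obtain ⟨k2, k2'⟩ := S.e_eq_one h2
  obtain ⟨k4, k4'⟩ := S.e_eq_one h4
  obtain ⟨k6, k6'⟩ := S.e_eq_one h6
  obtain ⟨k8, k8'⟩ := S.e_eq_one h8
  simp only [k1, k2, k2', k3, k4, k4', k5, k6, k6', k7, k8, k8', Cfsg.Agent.H659.TF.x1_zero R,
    Cfsg.Agent.H659.TF.x2_zero R, Cfsg.Agent.H659.TF.x3_zero R, Cfsg.Agent.H659.TF.x4_zero R,
    Cfsg.Agent.H659.TF.x5_zero R, Cfsg.Agent.H659.TF.x6_zero R, Cfsg.Agent.H659.TF.x7_zero R,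
    Cfsg.Agent.H659.TF.x8_zero R, mul_one]

end

/-- the Steinberg endomorphism of the model -/
theorem rln_of_hyp {K : Type u} [Field K] {σ : K →+* K} {m : ℕ} (h : HypK σ m) : Rln σ (2 ^ m) := by
  have := h.fin
  have := Fintype.ofFinite K
  refine ⟨fun x => ?_, fun x => ?_, by positivity⟩
  · rw [h.sig, ← pow_mul, pow_succ]
  · rw [h.sig, ← pow_mul, ← pow_add]
    have e : m + (m + 1) = 2 * m + 1 := by ring
    rw [e, ← h.card, Nat.card_eq_fintype_card, FiniteField.pow_card]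

/-- **(REAL) of S5262** -/
theorem stReal : StReal.{u, v} := by
  intro K _ σ m hyp U _ T D hD hDc hA hB
  have hfin := hyp.fin
  let _ := Fintype.ofFinite K
  have hc : CharP K 2 := CharTwo.of_one_ne_zero_of_two_eq_zero one_ne_zero hyp.two
  have hK : Fintype.card K = 2 ^ (2 * m + 1) := by
    rw [← Nat.card_eq_fintype_card]; exact hyp.card
  have hφ := rln_of_hyp hyp
  have P : Fl (full hK hφ) (fun τ => S2128.fld τ (2 ^ m)) :=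
    ⟨fun τ a t => S2128.fld_ro τ hφ a t, fun τ a p u => S2128.fld_re τ hφ a p u⟩
  obtain ⟨ι, E⟩ := exists_emb (full hK hφ) T
  obtain ⟨F, h1, h2, h3, h4⟩ := real_full E P (rfl : (full hK hφ).R.p = 2) hD hDc hA hB
  exact ⟨F, h1, h2, h3, (pdA E P).std E P hA hB hD h4, (pdB E P).std E P hA hB hD h4⟩

end Cfsg.Agent.H491.TF
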